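import Groth.Agent.Lib.EtSite.UnitStalk
import Groth.Agent.Lib.EtSite.BaseChange
import Groth.Prelude.Def_EtCore

/-!
# Push-pull along integral morphisms as a presheaf of functions on geometric points

For `b : T ⟶ Y` integral and `F` a sheaf on the small etale site of `Y`, a section of `b_* b^* F` over
`U` is determined by its values in the stalks of `F`, one for each geometric point of `U ×_Y T` over the
chosen algebraically closed geometric points of `Y`.  In this model the restriction along a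
`Y`-morphism `T' ⟶ T` is composition, so it is strictly functorial.
-/

set_option autoImplicit false

universe u

open CategoryTheory CategoryTheory.Limits AlgebraicGeometry Opposite

noncomputable section

namespace Groth.Agent.Lib.IntDescent

open Groth.Agent.Lib.EtSite
open Groth.Agent.Lib.EtSite.Basic Groth.Agent.Lib.EtSite.Stalk Groth.Agent.Lib.EtSite.PushStalk

variable {Y : Scheme.{u}}

/-- The residue field closure. -/
abbrev Om (y : Y) : Type u := AlgebraicClosure (Y.residueField y)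

/-- The chosen geometric point. -/
abbrev eta (y : Y) : Spec (CommRingCat.of (Om y)) ⟶ Y := Push.algPoint Y y

variable (F : EtCoh.Ab Y)

/-- The fibre functor point at the chosen geometric point. -/
abbrev Fib (y : Y) (U : Y.Etale) : Type u := (Scheme.pointSmallEtale (eta y)).fiber.obj U

/-- The stalk at the chosen geometric point. -/
abbrev St (y : Y) : AddCommGrpCat.{u + 1} := (EtCoh.stalk (eta y)).obj F

/-- Germs of sections of `F`. -/
abbrev gm (y : Y) (U : Y.Etale) (p : Fib y U) (s : F.obj.obj (op U)) : St F y :=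
  (Scheme.pointSmallEtale (eta y)).toPresheafFiber U p F.obj s

variable {T : Scheme.{u}} (b : T ⟶ Y)

/-- The geometric points of `T` over the chosen geometric point. -/
abbrev Pts (y : Y) : Type u := {ξ : Spec (CommRingCat.of (Om y)) ⟶ T // ξ ≫ b = eta y}

/-- Functions on geometric points with values in the stalks. -/
abbrev Fun (U : Y.Etale) : Type (u + 1) := ∀ y : Y, Fib y U → Pts b y → St F y

/-- The inverse image. -/
abbrev G : EtCoh.Ab T := (EtCoh.pull b).obj F

/-- The stalks of the inverse image. -/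
def uS {y : Y} (ξ : Pts b y) : St F y ⟶ (EtCoh.stalk ξ.1).obj (G F b) :=
  (EtCoh.stalk (eta y)).map ((EtCoh.pullPushAdj b).unit.app F) ≫
    (germTo b AddCommGrpCat.{u + 1} ξ.2).app (G F b)

theorem isIso_uS {y : Y} (ξ : Pts b y) : IsIso (uS F b ξ) := by
  have key : ∀ (η : Spec (CommRingCat.of (Om y)) ⟶ Y) (h : ξ.1 ≫ b = η),
      IsIso ((EtCoh.stalk η).map ((EtCoh.pullPushAdj b).unit.app F) ≫
        (germTo b AddCommGrpCat.{u + 1} h).app (G F b)) := by
    rintro η rfl
    exact UnitStalk.isIso_unitStalk b ξ.1 AddCommGrpCat.{u + 1} F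
  exact key _ ξ.2

theorem uS_bijective {y : Y} (ξ : Pts b y) : Function.Bijective (uS F b ξ) :=
  (ConcreteCategory.isIso_iff_bijective _).1 (isIso_uS F b ξ)

/-- The value in the stalk of `F`. -/
def uE {y : Y} (ξ : Pts b y) : St F y ≃+ (EtCoh.stalk ξ.1).obj (G F b) :=
  AddEquiv.ofBijective (uS F b ξ).hom (uS_bijective F b ξ)

/-- Germs of sections of the inverse image. -/
abbrev gmT {y : Y} (ξ : Pts b y) (Z : T.Etale) (l : (Scheme.pointSmallEtale ξ.1).fiber.obj Z)
    (s : (G F b).obj.obj (op Z)) : (EtCoh.stalk ξ.1).obj (G F b) :=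
  (Scheme.pointSmallEtale ξ.1).toPresheafFiber Z l (G F b).obj s

/-- The unit on sections. -/
abbrev un (W : Y.Etale) : F.obj.obj (op W) ⟶ (G F b).obj.obj (op ((EtCoh.bc b).obj W)) :=
  ((EtCoh.pullPushAdj b).unit.app F).hom.app (op W)

theorem uE_gm {y : Y} (ξ : Pts b y) (W : Y.Etale) (q : Fib y W) (a : F.obj.obj (op W)) :
    uE F b ξ (gm F y W q a) = gmT F b ξ _ (liftPt b ξ.2 W q) (un F b W a) := by
  change (germTo b AddCommGrpCat.{u + 1} ξ.2).app (G F b)
    ((Scheme.pointSmallEtale (eta y)).sheafFiber.map ((EtCoh.pullPushAdj b).unit.app F)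
      ((Scheme.pointSmallEtale (eta y)).toPresheafFiber W q F.obj a)) = _
  refine (congrArg ((germTo b AddCommGrpCat.{u + 1} ξ.2).app (G F b))
    ((Scheme.pointSmallEtale (eta y)).toPresheafFiber_naturality_apply
      ((EtCoh.pullPushAdj b).unit.app F).hom W q a)).trans ?_
  exact germTo_toPresheafFiber b ξ.2 (G F b) W q _

/-- The value of a section at a point. -/
abbrev val (U : Y.Etale) (s : (G F b).obj.obj (op ((EtCoh.bc b).obj U))) (y : Y) (p : Fib y U)
    (ξ : Pts b y) : St F y :=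
  (uE F b ξ).symm (gmT F b ξ _ (liftPt b ξ.2 U p) s)

/-- The values of a section. -/
def θ (U : Y.Etale) : (G F b).obj.obj (op ((EtCoh.bc b).obj U)) →+ Fun F b U where
  toFun s y p ξ := val F b U s y p ξ
  map_zero' := by
    funext y p ξ
    exact (congrArg (uE F b ξ).symm (map_zero _)).trans (map_zero (uE F b ξ).symm)
  map_add' s t := by
    funext y p ξ
    exact (congrArg (uE F b ξ).symm (map_add _ s t)).trans (map_add (uE F b ξ).symm _ _)

theorem θ_apply (U : Y.Etale) (s : (G F b).obj.obj (op ((EtCoh.bc b).obj U))) (y : Y) (p : Fib y U)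
    (ξ : Pts b y) : θ F b U s y p ξ = (uE F b ξ).symm (gmT F b ξ _ (liftPt b ξ.2 U p) s) := rfl

theorem θ_un (U : Y.Etale) (a : F.obj.obj (op U)) (y : Y) (p : Fib y U) (ξ : Pts b y) :
    θ F b U (un F b U a) y p ξ = gm F y U p a := by
  rw [θ_apply, ← uE_gm, AddEquiv.symm_apply_apply]

/-- The fibre point of `U` under a fibre point of `bc b U`. -/
def downPt {y : Y} (ξ : Pts b y) (U : Y.Etale)
    (l : (Scheme.pointSmallEtale ξ.1).fiber.obj ((EtCoh.bc b).obj U)) : Fib y U :=
  mkFiber (eta y) U (fiberHom l ≫ pullback.fst U.hom b) (by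
    have h := fiberHom_comp l
    exact (Category.assoc _ _ _).trans ((fiberHom l ≫= pullback.condition).trans
      ((Category.assoc _ _ _).symm.trans ((congrArg (fun m => m ≫ b) h).trans ξ.2))))

theorem liftPt_downPt {y : Y} (ξ : Pts b y) (U : Y.Etale)
    (l : (Scheme.pointSmallEtale ξ.1).fiber.obj ((EtCoh.bc b).obj U)) :
    liftPt b ξ.2 U (downPt b ξ U l) = l := by
  apply Over.OverMorphism.ext
  apply pullback.hom_ext
  · exact pullback.lift_fst _ _ _
  · exact (pullback.lift_snd _ _ _).trans (fiberHom_comp l).symm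

theorem downPt_liftPt {y : Y} (ξ : Pts b y) (U : Y.Etale) (p : Fib y U) :
    downPt b ξ U (liftPt b ξ.2 U p) = p := by
  apply Over.OverMorphism.ext
  exact pullback.lift_fst _ _ _

theorem gmT_map {y : Y} (ξ : Pts b y) {Z Z' : T.Etale} (k : Z' ⟶ Z)
    (l : (Scheme.pointSmallEtale ξ.1).fiber.obj Z') (s : (G F b).obj.obj (op Z)) :
    gmT F b ξ Z' l ((G F b).obj.map k.op s) =
      gmT F b ξ Z ((Scheme.pointSmallEtale ξ.1).fiber.map k l) s :=
  GrothendieckTopology.Point.toPresheafFiber_w_apply _ _ _ _ _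

section

variable [IsIntegralHom b]

theorem exists_pt (x : T) : ∃ ξ : Pts b (b.base x), ξ.1.base default = x := by
  obtain ⟨z, hz, -⟩ := Scheme.Pullback.exists_preimage_pullback (f := b) (g := eta (b.base x)) x
    default (Push.algPoint_apply Y _ _).symm
  obtain ⟨s, hs, hs'⟩ := FieldExt.exists_section_of_isIntegralHom (pullback.snd b (eta (b.base x))) z
  refine ⟨⟨s ≫ pullback.fst _ _, ?_⟩, ?_⟩
  · rw [Category.assoc, pullback.condition, ← Category.assoc, hs, Category.id_comp]
  · rw [Scheme.Hom.comp_apply, hs', hz]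

/-- Sections of the inverse image are detected at the chosen points. -/
theorem gext (Z : T.Etale) (s t : (G F b).obj.obj (op Z))
    (h : ∀ (y : Y) (ξ : Pts b y) (l : (Scheme.pointSmallEtale ξ.1).fiber.obj Z),
      gmT F b ξ Z l s = gmT F b ξ Z l t) : s = t :=
  sections_ext_of_germ (G F b) s t fun x => by
    obtain ⟨ξ, hξ⟩ := exists_pt b x
    exact ⟨_, inferInstance, inferInstance, ξ.1, hξ, fun l => h _ ξ l⟩

theorem θ_injective (U : Y.Etale) : Function.Injective (θ F b U) := fun s t h => by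
  refine gext F b _ s t fun y ξ l => ?_
  rw [← liftPt_downPt b ξ U l]
  exact (uE F b ξ).symm.injective (congrFun (congrFun (congrFun h y) (downPt b ξ U l)) ξ)

/-- Near a point a section comes from the base. -/
theorem exists_rep (U : Y.Etale) (s : (G F b).obj.obj (op ((EtCoh.bc b).obj U))) (y : Y)
    (p : Fib y U) (ξ : Pts b y) :
    ∃ (W : Y.Etale) (a : F.obj.obj (op W)) (Z : T.Etale) (g : Z ⟶ (EtCoh.bc b).obj U)
      (k : Z ⟶ (EtCoh.bc b).obj W) (l : (Scheme.pointSmallEtale ξ.1).fiber.obj Z),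
      (Scheme.pointSmallEtale ξ.1).fiber.map g l = liftPt b ξ.2 U p ∧
      (G F b).obj.map g.op s = (G F b).obj.map k.op (un F b W a) := by
  obtain ⟨W, q, a, ha⟩ := (Scheme.pointSmallEtale (eta y)).toPresheafFiber_jointly_surjective
    (val F b U s y p ξ)
  have h : gmT F b ξ _ (liftPt b ξ.2 U p) s = gmT F b ξ _ (liftPt b ξ.2 W q) (un F b W a) := by
    rw [← uE_gm, ← ((uE F b ξ).apply_symm_apply (gmT F b ξ _ (liftPt b ξ.2 U p) s))]
    exact congrArg (uE F b ξ) ha.symm
  let Φ := Scheme.pointSmallEtale ξ.1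
  let M := IsCofiltered.min (Φ.fiber.elementsMk _ (liftPt b ξ.2 U p))
    (Φ.fiber.elementsMk _ (liftPt b ξ.2 W q))
  let g₀ : M ⟶ Φ.fiber.elementsMk _ (liftPt b ξ.2 U p) := IsCofiltered.minToLeft _ _
  let k₀ : M ⟶ Φ.fiber.elementsMk _ (liftPt b ξ.2 W q) := IsCofiltered.minToRight _ _
  have h' : gmT F b ξ M.1 M.2 ((G F b).obj.map g₀.1.op s) =
      gmT F b ξ M.1 M.2 ((G F b).obj.map k₀.1.op (un F b W a)) := by
    rw [gmT_map, gmT_map]
    refine (congrArg (fun r => gmT F b ξ _ r s) g₀.2).trans (h.trans ?_)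
    exact (congrArg (fun r => gmT F b ξ _ r (un F b W a)) k₀.2).symm
  obtain ⟨Z, j, l, hl, hj⟩ := (Φ.toPresheafFiber_eq_iff' M.1 M.2 _ _).1 h'
  refine ⟨W, a, Z, j ≫ g₀.1, j ≫ k₀.1, l, ?_, ?_⟩
  · rw [Functor.map_comp, ConcreteCategory.comp_apply]
    exact (congrArg (Φ.fiber.map g₀.1) hl).trans g₀.2
  · simp only [op_comp, Functor.map_comp, ConcreteCategory.comp_apply]
    exact hj

/-- Functions which are locally values of sections are values of a section. -/
theorem mem_range_of_cover (U : Y.Etale) (σ : Fun F b U) {ι : Type (u + 1)} (Z : ι → T.Etale)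
    (g : ∀ i, Z i ⟶ (EtCoh.bc b).obj U) (s : ∀ i, (G F b).obj.obj (op (Z i)))
    (hcov : ∀ (y : Y) (p : Fib y U) (ξ : Pts b y), ∃ (i : ι)
      (l : (Scheme.pointSmallEtale ξ.1).fiber.obj (Z i)),
      (Scheme.pointSmallEtale ξ.1).fiber.map (g i) l = liftPt b ξ.2 U p)
    (hval : ∀ (i : ι) (y : Y) (ξ : Pts b y) (l : (Scheme.pointSmallEtale ξ.1).fiber.obj (Z i)),
      gmT F b ξ (Z i) l (s i) =
        uE F b ξ (σ y (downPt b ξ U ((Scheme.pointSmallEtale ξ.1).fiber.map (g i) l)) ξ)) :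
    σ ∈ (θ F b U).range := by
  classical
  have hF : Presieve.IsSheaf T.smallEtaleTopology ((G F b).obj ⋙ forget AddCommGrpCat.{u + 1}) :=
    (isSheaf_iff_isSheaf_of_type _ _).1
      ((sheafCompose T.smallEtaleTopology (forget AddCommGrpCat.{u + 1})).obj (G F b)).2
  have hS : (Presieve.ofArrows Z g).IsSheafFor ((G F b).obj ⋙ forget AddCommGrpCat.{u + 1}) := by
    rw [Presieve.isSheafFor_iff_generate]
    refine hF _ (ofArrows_mem Z g fun x => ?_)
    obtain ⟨ξ, hξ⟩ := exists_pt b (((EtCoh.bc b).obj U).hom.base x)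
    obtain ⟨r, hr⟩ := exists_fiber ξ.1 ((EtCoh.bc b).obj U) x hξ.symm
    obtain ⟨i, l, hl⟩ := hcov _ (downPt b ξ U r) ξ
    rw [liftPt_downPt] at hl
    exact ⟨i, fiberPt l, (fiberPt_map (g i) l).symm.trans ((congrArg fiberPt hl).trans hr)⟩
  obtain ⟨t, ht, -⟩ := (Presieve.isSheafFor_arrows_iff _ g).1 hS s fun i j R gi gj hg => by
    refine gext F b R _ _ fun y ξ r => ?_
    change gmT F b ξ R r ((G F b).obj.map gi.op (s i)) = gmT F b ξ R r ((G F b).obj.map gj.op (s j))
    rw [gmT_map, gmT_map, hval, hval]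
    have e : (Scheme.pointSmallEtale ξ.1).fiber.map (g i) ((Scheme.pointSmallEtale ξ.1).fiber.map gi r) =
        (Scheme.pointSmallEtale ξ.1).fiber.map (g j) ((Scheme.pointSmallEtale ξ.1).fiber.map gj r) := by
      rw [← ConcreteCategory.comp_apply, ← ConcreteCategory.comp_apply, ← Functor.map_comp,
        ← Functor.map_comp, hg]
    rw [e]
  refine ⟨t, funext fun y => funext fun p => funext fun ξ => ?_⟩
  obtain ⟨i, l, hl⟩ := hcov y p ξ
  have h := hval i y ξ l
  rw [hl, downPt_liftPt] at h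
  rw [θ_apply]
  refine ((congrArg (uE F b ξ).symm ?_).trans ((uE F b ξ).symm_apply_apply (σ y p ξ)))
  rw [← h, ← hl, ← gmT_map]
  exact congrArg (gmT F b ξ (Z i) l) (ht i)

/-! ### Restriction -/

/-- Restriction along the base. -/
def res {U U' : Y.Etale} (j : U' ⟶ U) : Fun F b U →+ Fun F b U' where
  toFun σ y p ξ := σ y ((Scheme.pointSmallEtale (eta y)).fiber.map j p) ξ
  map_zero' := rfl
  map_add' _ _ := rfl

omit [IsIntegralHom b] in
theorem θ_res {U U' : Y.Etale} (j : U' ⟶ U) (s : (G F b).obj.obj (op ((EtCoh.bc b).obj U))) :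
    θ F b U' ((G F b).obj.map ((EtCoh.bc b).map j).op s) = res F b j (θ F b U s) := by
  funext y p ξ
  change (uE F b ξ).symm _ = (uE F b ξ).symm _
  rw [gmT_map, map_liftPt]

/-! ### Pullback -/

variable {T' : Scheme.{u}} {b' : T' ⟶ Y} (φ : T' ⟶ T) (hφ : φ ≫ b = b')

/-- The image of a point. -/
abbrev mapPt {y : Y} (ξ : Pts b' y) : Pts b y :=
  ⟨ξ.1 ≫ φ, (Category.assoc _ _ _).trans ((ξ.1 ≫= hφ).trans ξ.2)⟩

/-- Pullback of functions. -/
def pb (U : Y.Etale) : Fun F b U →+ Fun F b' U where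
  toFun σ y p ξ := σ y p (mapPt b φ hφ ξ)
  map_zero' := rfl
  map_add' _ _ := rfl

/-- A morphism into `bc b U` pulled back to `T'`. -/
def bcMap {Z : T.Etale} {U : Y.Etale} (g : Z ⟶ (EtCoh.bc b).obj U) :
    (EtCoh.bc φ).obj Z ⟶ (EtCoh.bc b').obj U :=
  MorphismProperty.Over.homMk
    (pullback.lift (pullback.fst Z.hom φ ≫ g.left ≫ pullback.fst U.hom b) (pullback.snd Z.hom φ) (by
      have e : g.left ≫ pullback.snd U.hom b = Z.hom := Over.w g.hom
      calc (pullback.fst Z.hom φ ≫ g.left ≫ pullback.fst U.hom b) ≫ U.hom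
          = (pullback.fst Z.hom φ ≫ g.left) ≫ (pullback.fst U.hom b ≫ U.hom) := by
            simp only [Category.assoc]
        _ = (pullback.fst Z.hom φ ≫ g.left) ≫ (pullback.snd U.hom b ≫ b) :=
            congrArg ((pullback.fst Z.hom φ ≫ g.left) ≫ ·) pullback.condition
        _ = pullback.fst Z.hom φ ≫ (g.left ≫ pullback.snd U.hom b) ≫ b :=
            (Category.assoc _ _ _).trans (congrArg (pullback.fst Z.hom φ ≫ ·) (Category.assoc _ _ _).symm)
        _ = pullback.fst Z.hom φ ≫ Z.hom ≫ b := congrArg (fun m => pullback.fst Z.hom φ ≫ m ≫ b) e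
        _ = (pullback.snd Z.hom φ ≫ φ) ≫ b :=
            (Category.assoc _ _ _).symm.trans (congrArg (· ≫ b) pullback.condition)
        _ = pullback.snd Z.hom φ ≫ b' := (Category.assoc _ _ _).trans (congrArg (pullback.snd Z.hom φ ≫ ·) hφ)))
    (pullback.lift_snd _ _ _)

omit [IsIntegralHom b] in
theorem bcMap_fst {Z : T.Etale} {U : Y.Etale} (g : Z ⟶ (EtCoh.bc b).obj U)
    {W : Scheme.{u}} (l : W ⟶ ((EtCoh.bc φ).obj Z).left) :
    (l ≫ (bcMap b φ hφ g).left) ≫ pullback.fst U.hom b' =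
      (l ≫ pullback.fst Z.hom φ) ≫ g.left ≫ pullback.fst U.hom b :=
  (Category.assoc _ _ _).trans ((l ≫= pullback.lift_fst _ _ _).trans (Category.assoc _ _ _).symm)

omit [IsIntegralHom b] in
theorem bcMap_snd {Z : T.Etale} {U : Y.Etale} (g : Z ⟶ (EtCoh.bc b).obj U)
    {W : Scheme.{u}} (l : W ⟶ ((EtCoh.bc φ).obj Z).left) :
    (l ≫ (bcMap b φ hφ g).left) ≫ pullback.snd U.hom b' = l ≫ pullback.snd Z.hom φ :=
  (Category.assoc _ _ _).trans (l ≫= pullback.lift_snd _ _ _)

/-- The point of `Z` under a point of its pullback. -/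
def pushPt {y : Y} (ξ : Pts b' y) (Z : T.Etale)
    (l : (Scheme.pointSmallEtale ξ.1).fiber.obj ((EtCoh.bc φ).obj Z)) :
    (Scheme.pointSmallEtale (mapPt b φ hφ ξ).1).fiber.obj Z :=
  mkFiber _ Z (fiberHom l ≫ pullback.fst Z.hom φ) (by
    have h := fiberHom_comp l
    exact (Category.assoc _ _ _).trans ((fiberHom l ≫= pullback.condition).trans
      ((Category.assoc _ _ _).symm.trans (congrArg (fun m => m ≫ φ) h))))

omit [IsIntegralHom b] in
theorem downPt_bcMap {y : Y} (ξ : Pts b' y) {Z : T.Etale} {U : Y.Etale}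
    (g : Z ⟶ (EtCoh.bc b).obj U)
    (l : (Scheme.pointSmallEtale ξ.1).fiber.obj ((EtCoh.bc φ).obj Z)) :
    downPt b' ξ U ((Scheme.pointSmallEtale ξ.1).fiber.map (bcMap b φ hφ g) l) =
      downPt b (mapPt b φ hφ ξ) U ((Scheme.pointSmallEtale (mapPt b φ hφ ξ).1).fiber.map g
        (pushPt b φ hφ ξ Z l)) := by
  apply Over.OverMorphism.ext
  exact (bcMap_fst b φ hφ g (fiberHom l)).trans (Category.assoc _ _ _).symm

/-- Pullbacks of values of sections are values of sections. -/
theorem pb_mem [IsIntegralHom b'] (U : Y.Etale) {σ : Fun F b U} (hσ : σ ∈ (θ F b U).range) :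
    pb F b φ hφ U σ ∈ (θ F b' U).range := by
  obtain ⟨s, rfl⟩ := hσ
  refine mem_range_of_cover F b' U _
    (ι := Σ (W : Y.Etale) (Z : T.Etale), {d : (Z ⟶ (EtCoh.bc b).obj U) × (Z ⟶ (EtCoh.bc b).obj W) ×
      F.obj.obj (op W) // (G F b).obj.map d.1.op s = (G F b).obj.map d.2.1.op (un F b W d.2.2)})
    (fun i => (EtCoh.bc φ).obj i.2.1) (fun i => bcMap b φ hφ i.2.2.1.1)
    (fun i => (G F b').obj.map (bcMap b φ hφ i.2.2.1.2.1).op (un F b' i.1 i.2.2.1.2.2))
    (fun y p ξ => ?_) (fun i y ξ l => ?_)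
  · obtain ⟨W, a, Z, g, k, l, hl, he⟩ := exists_rep F b U s y p (mapPt b φ hφ ξ)
    refine ⟨⟨W, Z, ⟨(g, k, a), he⟩⟩, mkFiber ξ.1 _ (pullback.lift (fiberHom l) ξ.1 (fiberHom_comp l))
      (pullback.lift_snd _ _ _), ?_⟩
    apply Over.OverMorphism.ext
    change pullback.lift (fiberHom l) ξ.1 (fiberHom_comp l) ≫ (bcMap b φ hφ g).left = _
    apply pullback.hom_ext
    · refine (bcMap_fst b φ hφ g _).trans ?_
      refine ((pullback.lift_fst _ _ _) =≫ _).trans ?_
      have e : fiberHom l ≫ g.left = pullback.lift (fiberHom p) (ξ.1 ≫ φ) _ :=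
        congrArg (fun m => m.left) hl
      refine ((Category.assoc _ _ _).symm.trans ((e =≫ _).trans (pullback.lift_fst _ _ _))).trans ?_
      exact (pullback.lift_fst _ _ _).symm
    · exact (bcMap_snd b φ hφ g _).trans ((pullback.lift_snd _ _ _).trans (pullback.lift_snd _ _ _).symm)
  · obtain ⟨W, Z, ⟨⟨g, k, a⟩, he⟩⟩ := i
    have key := congrArg (gmT F b (mapPt b φ hφ ξ) Z (pushPt b φ hφ ξ Z l)) he
    rw [gmT_map, gmT_map] at key
    let r := (Scheme.pointSmallEtale ξ.1).fiber.map (bcMap b φ hφ k) l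
    have h1 : gmT F b' ξ _ r (un F b' W a) = uE F b' ξ (gm F y W (downPt b' ξ W r) a) := by
      rw [uE_gm, liftPt_downPt]
    refine ((gmT_map F b' ξ _ l _).trans h1).trans (congrArg (uE F b' ξ) ?_)
    refine (congrArg (fun q => gm F y W q a) (downPt_bcMap b φ hφ ξ k l)).trans ?_
    refine Eq.trans ?_ (congrArg (fun q => θ F b U s y q (mapPt b φ hφ ξ))
      (downPt_bcMap b φ hφ ξ g l)).symm
    rw [θ_apply, liftPt_downPt]
    apply (uE F b (mapPt b φ hφ ξ)).injective
    rw [AddEquiv.apply_symm_apply, uE_gm, liftPt_downPt]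
    exact key.symm

end

/-! ### The sheaf -/

variable [IsIntegralHom b]

/-- The presheaf of functions coming from sections. -/
def pre : Y.Etaleᵒᵖ ⥤ AddCommGrpCat.{u + 1} where
  obj U := AddCommGrpCat.of (θ F b U.unop).range
  map {U U'} j := AddCommGrpCat.ofHom (((res F b j.unop).comp (θ F b U.unop).range.subtype).codRestrict _
    fun x => by
      obtain ⟨s, hs⟩ := x.2
      exact ⟨(G F b).obj.map ((EtCoh.bc b).map j.unop).op s,
        (θ_res F b j.unop s).trans (congrArg (res F b j.unop) hs)⟩)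
  map_id U := by
    ext x y p ξ
    change x.1 y ((Scheme.pointSmallEtale (eta y)).fiber.map (𝟙 U.unop) p) ξ = x.1 y p ξ
    rw [CategoryTheory.Functor.map_id]
    rfl
  map_comp {U U' U''} i j := by
    ext x y p ξ
    change x.1 y ((Scheme.pointSmallEtale (eta y)).fiber.map (j.unop ≫ i.unop) p) ξ = x.1 y _ ξ
    rw [Functor.map_comp]
    rfl

/-- The comparison with push-pull. -/
def preIso : ((EtCoh.push b).obj (G F b)).obj ≅ pre F b :=
  NatIso.ofComponents
    (fun U => (AddMonoidHom.ofInjective (θ_injective F b U.unop)).toAddCommGrpIso) fun {U U'} j => by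
      ext s
      exact Subtype.ext (θ_res F b j.unop s)

/-- The push-pull sheaf, as a sheaf of functions. -/
def C : EtCoh.Ab Y :=
  ⟨pre F b, Presheaf.isSheaf_of_iso_iff (preIso F b) |>.1 ((EtCoh.push b).obj (G F b)).2⟩

/-- The comparison with push-pull. -/
def cIso : (EtCoh.push b).obj (G F b) ≅ C F b :=
  (fullyFaithfulSheafToPresheaf _ _).preimageIso (preIso F b)

theorem C_ext {U : Y.Etale} {x z : (C F b).obj.obj (op U)} (h : x.1 = z.1) : x = z :=
  Subtype.ext h

variable {T' : Scheme.{u}} {b' : T' ⟶ Y} [IsIntegralHom b'] (φ : T' ⟶ T) (hφ : φ ≫ b = b')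

/-- Restriction along a morphism over the base. -/
def cMap : C F b ⟶ C F b' :=
  ⟨{ app := fun U => AddCommGrpCat.ofHom
      (((pb F b φ hφ U.unop).comp (θ F b U.unop).range.subtype).codRestrict _
        fun x => pb_mem F b φ hφ U.unop x.2)
     naturality := fun U U' j => by
      ext x
      exact Subtype.ext rfl }⟩

theorem cMap_apply {U : Y.Etale} (x : (C F b).obj.obj (op U)) (y : Y) (p : Fib y U)
    (ξ : Pts b' y) : ((cMap F b φ hφ).hom.app (op U) x).1 y p ξ = x.1 y p (mapPt b φ hφ ξ) := rfl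

/-- The augmentation. -/
def cAug : F ⟶ C F b := (EtCoh.pullPushAdj b).unit.app F ≫ (cIso F b).hom

theorem cAug_apply {U : Y.Etale} (a : F.obj.obj (op U)) (y : Y) (p : Fib y U) (ξ : Pts b y) :
    ((cAug F b).hom.app (op U) a).1 y p ξ = gm F y U p a :=
  θ_un F b U a y p ξ

end Groth.Agent.Lib.IntDescent
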