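import Groth.Agent.Lib.SpecSeq.CxExt
import Groth.Agent.Lib.SpecSeq.HomExt
import Mathlib.Algebra.Homology.HomologySequence
import Mathlib.CategoryTheory.Preadditive.Injective.Resolution
import Mathlib.CategoryTheory.Abelian.Injective.Resolution
import Groth.Agent.Lib.BigEt.Derived

/-!
# Injective resolutions of resolutions, in the category of complexes

An injective resolution of a complex which resolves an object, in the abelian category of complexes,
gives an injective resolution of the object in degree zero cohomology, and injective resolutions of the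
terms in each degree.
-/

set_option autoImplicit false

universe v u

open CategoryTheory CategoryTheory.Limits

noncomputable section

namespace Groth.Agent.Lib.IntDescent.InjCx

open Groth.Agent.Lib.SpecSeq

variable {A : Type u} [Category.{v} A] [Abelian A]

/-- The envelope of a complex by the complex of disks on injectives. -/
abbrev env [EnoughInjectives A] (J : CochainComplex A ℕ) : CochainComplex A ℕ :=
  CochainComplex.of (fun n => Injective.under (J.X n) ⊞ Injective.under (J.X (n + 1)))
    (fun n => biprod.snd ≫ biprod.inl) (fun n => by simp)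

theorem env_d [EnoughInjectives A] (J : CochainComplex A ℕ) (n : ℕ) :
    (env J).d n (n + 1) = biprod.snd ≫ biprod.inl :=
  CochainComplex.of_d (fun n => Injective.under (J.X n) ⊞ Injective.under (J.X (n + 1)))
    (fun n => biprod.snd ≫ biprod.inl) n

/-- The embedding in the envelope. -/
def envι [EnoughInjectives A] (J : CochainComplex A ℕ) : J ⟶ env J where
  f n := biprod.lift (Injective.ι _) (J.d n (n + 1) ≫ Injective.ι _)
  comm' := by
    rintro i j (rfl : i + 1 = j)
    rw [env_d, biprod.lift_snd_assoc]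
    apply biprod.hom_ext <;> simp

instance [EnoughInjectives A] (J : CochainComplex A ℕ) : Mono (envι J) :=
  have : ∀ n, Mono ((envι J).f n) := fun n =>
    mono_of_mono_fac (biprod.lift_fst (Injective.ι _) (J.d n (n + 1) ≫ Injective.ι _))
  HomologicalComplex.mono_of_mono_f _ this

theorem injective_X [EnoughInjectives A] (J : CochainComplex A ℕ) [Injective J] (n : ℕ) :
    Injective (J.X n) := by
  let r := Injective.factorThru (𝟙 J) (envι J)
  have hr : envι J ≫ r = 𝟙 J := Injective.comp_factorThru _ _
  have : Injective ((env J).X n) :=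
    inferInstanceAs (Injective (Injective.under (J.X n) ⊞ Injective.under (J.X (n + 1))))
  exact Retract.injective ⟨(envι J).f n, r.f n, by
    rw [← HomologicalComplex.comp_f, hr]; rfl⟩

theorem injective_H0 (J : CochainComplex A ℕ) [Injective J] : Injective (J.homology 0) := by
  have : IsIso (J.homologyπ 0) := J.isIso_homologyπ 0 0 (by simp) (J.shape 0 0 (by simp))
  suffices Injective (J.cycles 0) from Injective.of_iso (asIso (J.homologyπ 0)) this
  constructor
  intro P Q h i hi
  let a : (CochainComplex.single₀ A).obj P ⟶ J :=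
    (CochainComplex.fromSingle₀Equiv J P).symm ⟨h ≫ J.iCycles 0, by simp⟩
  let b := Injective.factorThru a ((CochainComplex.single₀ A).map i)
  refine ⟨J.liftCycles (b.f 0) 1 (by simp) (by
    refine (b.comm 0 1).trans ?_
    exact (congrArg (· ≫ b.f 1) (HomologicalComplex.single_obj_d _ _ _ _ _)).trans zero_comp), ?_⟩
  rw [← cancel_mono (J.iCycles 0), Category.assoc, HomologicalComplex.liftCycles_i]
  have e : (CochainComplex.single₀ A).map i ≫ b = a := Injective.comp_factorThru _ _
  have e' := HomologicalComplex.congr_hom e 0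
  rw [HomologicalComplex.comp_f, CochainComplex.single₀_map_f_zero] at e'
  exact e'.trans (CochainComplex.fromSingle₀Equiv_symm_apply_f_zero _ _)

theorem mono_H0 {J J' : CochainComplex A ℕ} (φ : J ⟶ J') [Mono (φ.f 0)] :
    Mono (HomologicalComplex.homologyMap φ 0) := by
  have : IsIso (J.homologyπ 0) := J.isIso_homologyπ 0 0 (by simp) (J.shape 0 0 (by simp))
  have : IsIso (J'.homologyπ 0) := J'.isIso_homologyπ 0 0 (by simp) (J'.shape 0 0 (by simp))
  have : Mono (HomologicalComplex.cyclesMap φ 0) :=
    mono_of_mono_fac (HomologicalComplex.cyclesMap_i φ 0)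
  have e : HomologicalComplex.homologyMap φ 0 =
      inv (J.homologyπ 0) ≫ HomologicalComplex.cyclesMap φ 0 ≫ J'.homologyπ 0 := by
    rw [← HomologicalComplex.homologyπ_naturality, IsIso.inv_hom_id_assoc]
  rw [e]
  infer_instance

variable (K : CochainComplex A ℕ) (R : InjectiveResolution K)

/-- The cosyzygies. -/
abbrev Q (q : ℕ) : CochainComplex A ℕ := kernel (R.cocomplex.d q (q + 1))

/-- The inclusion of a cosyzygy. -/
abbrev qι (q : ℕ) : Q K R q ⟶ R.cocomplex.X q := kernel.ι _

/-- The projection onto the next cosyzygy. -/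
abbrev qπ (q : ℕ) : R.cocomplex.X q ⟶ Q K R (q + 1) :=
  kernel.lift _ (R.cocomplex.d q (q + 1)) (R.cocomplex.d_comp_d _ _ _)

/-- The short exact sequence of cosyzygies. -/
abbrev qSeq (q : ℕ) : ShortComplex (CochainComplex A ℕ) :=
  ShortComplex.mk (qι K R q) (qπ K R q) (by
    rw [← cancel_mono (qι K R (q + 1)), Category.assoc, kernel.lift_ι, kernel.condition, zero_comp])

theorem qSeq_shortExact (q : ℕ) : (qSeq K R q).ShortExact where
  mono_f := inferInstanceAs (Mono (kernel.ι _))
  exact := by
    refine ShortComplex.exact_of_f_is_kernel _ (KernelFork.IsLimit.ofι' _ _ fun {W} k hk => ?_)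
    refine ⟨kernel.lift _ k ?_, kernel.lift_ι _ _ _⟩
    rw [← kernel.lift_ι (R.cocomplex.d (q + 1) (q + 1 + 1)) (R.cocomplex.d q (q + 1))
      (R.cocomplex.d_comp_d _ _ _), ← Category.assoc, hk, zero_comp]
  epi_g := by
    have h := R.cocomplex_exactAt_succ q
    rw [HomologicalComplex.exactAt_iff' _ q (q + 1) (q + 1 + 1) (by simp) (by simp)] at h
    exact h.epi_kernelLift

/-- The zeroth cosyzygy is the complex. -/
def q0Iso : K ≅ Q K R 0 :=
  R.isLimitKernelFork.conePointUniqueUpToIso (limit.isLimit _)

variable (hK : ∀ n : ℕ, IsZero (K.homology (n + 1)))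

include hK in
theorem isZero_homology_Q (q : ℕ) : ∀ n : ℕ, IsZero ((Q K R q).homology (n + 1)) := by
  induction q with
  | zero =>
    exact fun n => (hK n).of_iso ((HomologicalComplex.homologyFunctor A _ (n + 1)).mapIso (q0Iso K R)).symm
  | succ q ih =>
    intro n
    exact ((qSeq_shortExact K R q).homology_exact₃ (n + 1) (n + 2) (by simp)).isZero_of_both_zeros
      ((CxExt.isZero_homology_of_injective (R.cocomplex.X q) n).eq_of_src _ _)
      ((ih (n + 1)).eq_of_tgt _ _)

/-- The complex of zeroth cohomology of the resolution. -/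
abbrev Z : CochainComplex A ℕ :=
  ((HomologicalComplex.homologyFunctor A (.up ℕ) 0).mapHomologicalComplex _).obj R.cocomplex

/-- Abbreviation for zeroth cohomology of a map. -/
abbrev h0 {J J' : CochainComplex A ℕ} (φ : J ⟶ J') : J.homology 0 ⟶ J'.homology 0 :=
  HomologicalComplex.homologyMap φ 0

theorem mono_h0_qι (q : ℕ) : Mono (h0 (qι K R q)) := by
  have : Mono ((qι K R q).f 0) :=
    inferInstanceAs (Mono ((HomologicalComplex.eval A (.up ℕ) 0).map (kernel.ι _)))
  exact mono_H0 _

include hK in
theorem epi_h0_qπ (q : ℕ) : Epi (h0 (qπ K R q)) :=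
  ((qSeq_shortExact K R q).homology_exact₃ 0 1 (by simp)).epi_f
    ((isZero_homology_Q K R hK q 0).eq_of_tgt _ _)

theorem h0_d (q : ℕ) : h0 (qπ K R q) ≫ h0 (qι K R (q + 1)) = (Z K R).d q (q + 1) := by
  rw [← HomologicalComplex.homologyMap_comp, kernel.lift_ι]
  rfl

theorem h0_comp_d (q : ℕ) : h0 (qι K R q) ≫ (Z K R).d q (q + 1) = 0 := by
  change h0 (qι K R q) ≫ h0 (R.cocomplex.d q (q + 1)) = 0
  rw [← HomologicalComplex.homologyMap_comp, kernel.condition, HomologicalComplex.homologyMap_zero]

theorem exact_h0 (q : ℕ) :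
    (ShortComplex.mk (h0 (qι K R q)) ((Z K R).d q (q + 1)) (h0_comp_d K R q)).Exact := by
  have h := (qSeq_shortExact K R q).homology_exact₂ 0
  have := mono_h0_qι K R (q + 1)
  let φ : ShortComplex.mk (h0 (qι K R q)) (h0 (qπ K R q)) (by
      rw [← HomologicalComplex.homologyMap_comp, (qSeq K R q).zero, HomologicalComplex.homologyMap_zero]) ⟶
      ShortComplex.mk (h0 (qι K R q)) ((Z K R).d q (q + 1)) (h0_comp_d K R q) :=
    { τ₁ := 𝟙 _, τ₂ := 𝟙 _, τ₃ := h0 (qι K R (q + 1))
      comm₁₂ := (Category.id_comp _).trans (Category.comp_id _).symm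
      comm₂₃ := (Category.id_comp _).trans (h0_d K R q).symm }
  have : Epi φ.τ₁ := inferInstanceAs (Epi (𝟙 _))
  have : IsIso φ.τ₂ := inferInstanceAs (IsIso (𝟙 _))
  have : Mono φ.τ₃ := inferInstanceAs (Mono (h0 (qι K R (q + 1))))
  exact (ShortComplex.exact_iff_of_epi_of_isIso_of_mono φ).1 h

include hK in
theorem exactAt_Z (q : ℕ) : (Z K R).ExactAt (q + 1) := by
  rw [HomologicalComplex.exactAt_iff' _ q (q + 1) (q + 1 + 1) (by simp) (by simp)]
  have := epi_h0_qπ K R hK q
  let φ : (Z K R).sc' q (q + 1) (q + 1 + 1) ⟶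
      ShortComplex.mk (h0 (qι K R (q + 1))) ((Z K R).d (q + 1) (q + 1 + 1)) (h0_comp_d K R (q + 1)) :=
    { τ₁ := h0 (qπ K R q), τ₂ := 𝟙 _, τ₃ := 𝟙 _
      comm₁₂ := (h0_d K R q).trans (Category.comp_id _).symm
      comm₂₃ := (Category.id_comp _).trans (Category.comp_id _).symm }
  have : Epi φ.τ₁ := inferInstanceAs (Epi (h0 (qπ K R q)))
  have : IsIso φ.τ₂ := inferInstanceAs (IsIso (𝟙 _))
  have : Mono φ.τ₃ := inferInstanceAs (Mono (𝟙 _))
  exact (ShortComplex.exact_iff_of_epi_of_isIso_of_mono φ).2 (exact_h0 K R (q + 1))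

variable {F : A} (e : F ≅ K.homology 0)

/-- The augmentation. -/
def augZ : F ⟶ (Z K R).X 0 :=
  (e ≪≫ (HomologicalComplex.homologyFunctor A _ 0).mapIso (q0Iso K R)).hom ≫ h0 (qι K R 0)

theorem augZ_d : augZ K R e ≫ (Z K R).d 0 1 = 0 := by
  change (_ ≫ h0 (qι K R 0)) ≫ h0 (R.cocomplex.d 0 1) = 0
  rw [Category.assoc, ← HomologicalComplex.homologyMap_comp, kernel.condition,
    HomologicalComplex.homologyMap_zero, comp_zero]

/-- The injective resolution of the resolved object. -/
def resolution : InjectiveResolution F where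
  cocomplex := Z K R
  injective n := injective_H0 (R.cocomplex.X n)
  ι := (CochainComplex.fromSingle₀Equiv _ _).symm ⟨augZ K R e, augZ_d K R e⟩
  quasiIso := ⟨fun n => by
    cases n with
    | succ n =>
      rw [quasiIsoAt_iff_exactAt _ _ (CochainComplex.exactAt_succ_single_obj _ _)]
      exact exactAt_Z K R hK n
    | zero =>
      rw [CochainComplex.quasiIsoAt₀_iff, ShortComplex.quasiIso_iff_of_zeros]
      · have := mono_h0_qι K R 0
        let S := ShortComplex.mk (augZ K R e) ((Z K R).d 0 1) (augZ_d K R e)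
        let φ : S ⟶ ShortComplex.mk (h0 (qι K R 0)) ((Z K R).d 0 1) (h0_comp_d K R 0) :=
          { τ₁ := (e ≪≫ (HomologicalComplex.homologyFunctor A _ 0).mapIso (q0Iso K R)).hom
            τ₂ := 𝟙 _, τ₃ := 𝟙 _
            comm₁₂ := by exact (Category.comp_id _).symm
            comm₂₃ := (Category.id_comp _).trans (Category.comp_id _).symm }
        have : IsIso φ.τ₁ := inferInstanceAs (IsIso (Iso.hom _))
        have : IsIso φ.τ₂ := inferInstanceAs (IsIso (𝟙 _))
        have : Mono φ.τ₃ := inferInstanceAs (Mono (𝟙 _))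
        have hS : S.Exact := (ShortComplex.exact_iff_of_epi_of_isIso_of_mono φ).2 (exact_h0 K R 0)
        have hm : Mono S.f :=
          @mono_comp _ _ _ _ _ _ (IsIso.mono_of_iso _) (h0 (qι K R 0)) (mono_h0_qι K R 0)
        refine (ShortComplex.exact_and_mono_f_iff_of_iso ?_).1 ⟨hS, hm⟩
        refine ShortComplex.isoMk (Iso.refl _) (Iso.refl _) (Iso.refl _) ?_ ?_
        · exact (Category.id_comp _).trans ((CochainComplex.fromSingle₀Equiv_symm_apply_f_zero _ _).trans
            (Category.comp_id _).symm)
        · exact (Category.id_comp _).trans (Category.comp_id _).symm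
      all_goals first | rfl | exact (Z K R).shape _ _ (by simp)⟩

instance [EnoughInjectives A] (p : ℕ) :
    (HomologicalComplex.eval A (ComplexShape.up ℕ) p).PreservesInjectiveObjects where
  injective_obj {J} hJ := @injective_X _ _ _ _ J hJ p

instance (p : ℕ) : (HomologicalComplex.eval A (ComplexShape.up ℕ) p).Additive where

/-- The resolution of a term. -/
def evalResolution [EnoughInjectives A] (p : ℕ) : InjectiveResolution (K.X p) :=
  BigEt.Derived.mapRes R (HomologicalComplex.eval A (.up ℕ) p)

end Groth.Agent.Lib.IntDescent.InjCx
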