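import Groth.Agent.Lib.IntDescent.Func

/-!
# Values of sections on one fibre: local constancy, extension, vanishing nearby
-/

set_option autoImplicit false

universe u

open CategoryTheory CategoryTheory.Limits AlgebraicGeometry Opposite

noncomputable section

namespace Groth.Agent.Lib.IntDescent

open Groth.Agent.Lib.EtSite
open Groth.Agent.Lib.EtSite.Basic Groth.Agent.Lib.EtSite.Stalk Groth.Agent.Lib.EtSite.PushStalk
  Groth.Agent.Lib.EtSite.DisjointCover

variable {Y : Scheme.{u}} (F : EtCoh.Ab Y) {T : Scheme.{u}} (b : T ⟶ Y)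

/-- The section of the fibre attached to a point. -/
abbrev secOf {y : Y} (ξ : Pts b y) : Spec (CommRingCat.of (Om y)) ⟶ pullback b (eta y) :=
  pullback.lift ξ.1 (𝟙 _) (ξ.2.trans (Category.id_comp _).symm)

/-- The point of the fibre attached to a point. -/
abbrev ptOf {y : Y} (ξ : Pts b y) : ↥(pullback b (eta y)) := (secOf b ξ).base default

theorem eq_of_base_eq {Ω : Type u} [Field Ω] {P : Scheme.{u}} (h : P ⟶ Spec (CommRingCat.of Ω))
    {s s' : Spec (CommRingCat.of Ω) ⟶ P} (hs : s ≫ h = 𝟙 _) (hs' : s' ≫ h = 𝟙 _)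
    (e : s'.base default = s.base default) : s' = s := by
  rw [FieldExt.eq_comp_section hs s' e, hs', Category.id_comp]

theorem discrete_fibre (y : Y) {A B : Scheme.{u}} (g : A ⟶ B) [Etale g]
    (h : Spec (CommRingCat.of (Om y)) ⟶ B) : DiscreteTopology ↥(pullback g h) := by
  have : LocallyQuasiFinite (pullback.snd g h) := FieldExt.locallyQuasiFinite_of_etale _
  exact FieldExt.discreteTopology_of_locallyQuasiFinite (pullback.snd g h)

variable [IsIntegralHom b]

theorem θ_of_rep (U : Y.Etale) (s : (G F b).obj.obj (op ((EtCoh.bc b).obj U))) {y : Y} (p : Fib y U)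
    (ξ : Pts b y) {W : Y.Etale} {a : F.obj.obj (op W)} {Z : T.Etale}
    {g : Z ⟶ (EtCoh.bc b).obj U} {k : Z ⟶ (EtCoh.bc b).obj W}
    (he : (G F b).obj.map g.op s = (G F b).obj.map k.op (un F b W a))
    (l : (Scheme.pointSmallEtale ξ.1).fiber.obj Z)
    (hl : (Scheme.pointSmallEtale ξ.1).fiber.map g l = liftPt b ξ.2 U p) :
    θ F b U s y p ξ = gm F y W (downPt b ξ W ((Scheme.pointSmallEtale ξ.1).fiber.map k l)) a := by
  apply (uE F b ξ).injective
  rw [θ_apply, AddEquiv.apply_symm_apply, uE_gm, liftPt_downPt, ← hl, ← gmT_map, ← gmT_map, he]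

/-- Values are locally constant on a fibre. -/
theorem exists_open_const (U : Y.Etale) {σ : Fun F b U} (hσ : σ ∈ (θ F b U).range) (y : Y)
    (p : Fib y U) (ξ₀ : Pts b y) :
    ∃ O : Set ↥(pullback b (eta y)), IsOpen O ∧ ptOf b ξ₀ ∈ O ∧
      ∀ ξ : Pts b y, ptOf b ξ ∈ O → σ y p ξ = σ y p ξ₀ := by
  obtain ⟨s, rfl⟩ := hσ
  obtain ⟨W, a, Z, g, k, l₀, hl₀, he⟩ := exists_rep F b U s y p ξ₀
  let S : pullback b (eta y) ⟶ ((EtCoh.bc b).obj U).left :=
    pullback.lift (pullback.snd b (eta y) ≫ fiberHom p) (pullback.fst b (eta y))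
      ((Category.assoc _ _ _).trans ((_ ≫= fiberHom_comp p).trans pullback.condition.symm))
  have hS : ∀ ξ : Pts b y, secOf b ξ ≫ S = fiberHom (liftPt b ξ.2 U p) := fun ξ => by
    apply pullback.hom_ext
    · refine ((Category.assoc _ _ _).trans (secOf b ξ ≫= pullback.lift_fst _ _ _)).trans ?_
      refine (pullback.lift_snd_assoc _ _ _ _).trans ((Category.id_comp _).trans ?_)
      exact (pullback.lift_fst _ _ _).symm
    · refine ((Category.assoc _ _ _).trans (secOf b ξ ≫= pullback.lift_snd _ _ _)).trans ?_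
      exact (pullback.lift_fst _ _ _).trans (pullback.lift_snd _ _ _).symm
  have := Fiber.etale_left g
  let E := pullback g.left S
  let e : E ⟶ pullback b (eta y) := pullback.snd g.left S
  have hk : k.left ≫ pullback.snd W.hom b = Z.hom := Over.w k.hom
  have hg : g.left ≫ pullback.snd U.hom b = Z.hom := Over.w g.hom
  have hq : (pullback.fst g.left S ≫ k.left ≫ pullback.fst W.hom b) ≫ W.hom =
      (e ≫ pullback.snd b (eta y)) ≫ eta y := by
    calc (pullback.fst g.left S ≫ k.left ≫ pullback.fst W.hom b) ≫ W.hom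
        = (pullback.fst g.left S ≫ k.left) ≫ (pullback.fst W.hom b ≫ W.hom) := by
          simp only [Category.assoc]
      _ = (pullback.fst g.left S ≫ k.left) ≫ (pullback.snd W.hom b ≫ b) :=
          congrArg ((pullback.fst g.left S ≫ k.left) ≫ ·) pullback.condition
      _ = pullback.fst g.left S ≫ (k.left ≫ pullback.snd W.hom b) ≫ b :=
          (Category.assoc _ _ _).trans
            (congrArg (pullback.fst g.left S ≫ ·) (Category.assoc _ _ _).symm)
      _ = pullback.fst g.left S ≫ (g.left ≫ pullback.snd U.hom b) ≫ b :=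
          congrArg (fun m => pullback.fst g.left S ≫ m ≫ b) (hk.trans hg.symm)
      _ = ((pullback.fst g.left S ≫ g.left) ≫ pullback.snd U.hom b) ≫ b :=
          ((congrArg (· ≫ b) (Category.assoc _ _ _)).trans (Category.assoc _ _ _)).symm
      _ = ((e ≫ S) ≫ pullback.snd U.hom b) ≫ b :=
          congrArg (fun m => (m ≫ pullback.snd U.hom b) ≫ b) pullback.condition
      _ = (e ≫ pullback.fst b (eta y)) ≫ b :=
          congrArg (· ≫ b) ((Category.assoc _ _ _).trans (e ≫= pullback.lift_snd _ _ _))
      _ = (e ≫ pullback.snd b (eta y)) ≫ eta y :=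
          (Category.assoc _ _ _).trans ((e ≫= pullback.condition).trans (Category.assoc _ _ _).symm)
  let q : E ⟶ pullback W.hom (eta y) :=
    pullback.lift (pullback.fst g.left S ≫ k.left ≫ pullback.fst W.hom b)
      (e ≫ pullback.snd b (eta y)) hq
  have : Etale W.hom := W.prop
  have := discrete_fibre y W.hom (eta y)
  let z₀ : Spec (CommRingCat.of (Om y)) ⟶ E :=
    pullback.lift (fiberHom l₀) (secOf b ξ₀) ((congrArg (fun m => m.left) hl₀).trans (hS ξ₀).symm)
  refine ⟨e.base '' (q.base ⁻¹' {(z₀ ≫ q).base default}),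
    e.isOpenMap _ ((isOpen_discrete _).preimage q.continuous), ⟨z₀.base default, rfl, ?_⟩, ?_⟩
  · exact congrArg (fun m : Spec (CommRingCat.of (Om y)) ⟶ pullback b (eta y) => m.base default)
      (pullback.lift_snd _ _ _ : z₀ ≫ e = secOf b ξ₀)
  · rintro ξ ⟨z, hz, hze⟩
    obtain ⟨l', hl', hl'z⟩ := Scheme.exists_fac_of_etale_of_isSepClosed e (secOf b ξ) z hze
    have h1 : ∀ (m : Spec (CommRingCat.of (Om y)) ⟶ E) (η' : Pts b y), m ≫ e = secOf b η' →
        (m ≫ q) ≫ pullback.snd W.hom (eta y) = 𝟙 _ := fun m η' hm => by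
      refine ((Category.assoc _ _ _).trans (m ≫= pullback.lift_snd _ _ _)).trans ?_
      exact (Category.assoc _ _ _).symm.trans ((hm =≫ _).trans (pullback.lift_snd _ _ _))
    have h2 : l' ≫ q = z₀ ≫ q := eq_of_base_eq (pullback.snd W.hom (eta y))
      (h1 z₀ ξ₀ (pullback.lift_snd _ _ _)) (h1 l' ξ hl')
      ((congrArg q.base hl'z).trans hz)
    let l : (Scheme.pointSmallEtale ξ.1).fiber.obj Z := mkFiber ξ.1 Z (l' ≫ pullback.fst g.left S) (by
      calc (l' ≫ pullback.fst g.left S) ≫ Z.hom
          = (l' ≫ pullback.fst g.left S) ≫ (g.left ≫ pullback.snd U.hom b) :=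
            congrArg ((l' ≫ pullback.fst g.left S) ≫ ·) hg.symm
        _ = (l' ≫ pullback.fst g.left S ≫ g.left) ≫ pullback.snd U.hom b := by
            simp only [Category.assoc]
        _ = (l' ≫ e ≫ S) ≫ pullback.snd U.hom b :=
            congrArg (fun m => (l' ≫ m) ≫ pullback.snd U.hom b) pullback.condition
        _ = fiberHom (liftPt b ξ.2 U p) ≫ pullback.snd U.hom b :=
            congrArg (· ≫ pullback.snd U.hom b)
              ((Category.assoc _ _ _).symm.trans ((congrArg (· ≫ S) hl').trans (hS ξ)))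
        _ = ξ.1 := pullback.lift_snd _ _ _)
    have hl : (Scheme.pointSmallEtale ξ.1).fiber.map g l = liftPt b ξ.2 U p := by
      apply Over.OverMorphism.ext
      refine ((Category.assoc _ _ _).trans (l' ≫= pullback.condition)).trans ?_
      exact (Category.assoc _ _ _).symm.trans ((hl' =≫ S).trans (hS ξ))
    rw [θ_of_rep F b U s p ξ he l hl, θ_of_rep F b U s p ξ₀ he l₀ hl₀]
    refine congrArg (fun r => gm F y W r a) (Over.OverMorphism.ext ?_)
    have h3 := congrArg (· ≫ pullback.fst W.hom (eta y)) h2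
    refine Eq.trans ?_ ((h3.trans ?_))
    · refine Eq.trans ?_ ((Category.assoc _ _ _).trans (l' ≫= pullback.lift_fst _ _ _)).symm
      exact (congrArg (· ≫ pullback.fst W.hom b) (Category.assoc _ _ _)).trans (Category.assoc _ _ _)
    · refine ((Category.assoc _ _ _).trans (z₀ ≫= pullback.lift_fst _ _ _)).trans ?_
      refine (pullback.lift_fst_assoc _ _ _ _).trans ?_
      exact (Category.assoc _ _ _).symm

/-- A locally constant function on a fibre extends to a section nearby. -/
theorem exists_extend (U : Y.Etale) (y : Y) (p : Fib y U) (v : Pts b y → St F y)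
    (hv : ∀ ξ₀ : Pts b y, ∃ O : Set ↥(pullback b (eta y)), IsOpen O ∧ ptOf b ξ₀ ∈ O ∧
      ∀ ξ : Pts b y, ptOf b ξ ∈ O → v ξ = v ξ₀) :
    ∃ (U' : Y.Etale) (j : U' ⟶ U) (p' : Fib y U'),
      (Scheme.pointSmallEtale (eta y)).fiber.map j p' = p ∧
      ∃ τ : (C F b).obj.obj (op U'), ∀ ξ : Pts b y, τ.1 y p' ξ = v ξ := by
  classical
  let Φ := Scheme.pointSmallEtale (eta y)
  choose W₀ q₀ a₀ ha₀ using fun i : Pts b y => Φ.toPresheafFiber_jointly_surjective (v i)
  let M := fun i => IsCofiltered.min (Φ.fiber.elementsMk U p) (Φ.fiber.elementsMk (W₀ i) (q₀ i))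
  let jl : ∀ i, M i ⟶ Φ.fiber.elementsMk U p := fun i => IsCofiltered.minToLeft _ _
  let jr : ∀ i, M i ⟶ Φ.fiber.elementsMk (W₀ i) (q₀ i) := fun i => IsCofiltered.minToRight _ _
  let m : ∀ i, Fib y (M i).1 := fun i => (M i).2
  let a : ∀ i, F.obj.obj (op (M i).1) := fun i => F.obj.map (jr i).1.op (a₀ i)
  have ha : ∀ i, gm F y (M i).1 (m i) (a i) = v i := fun i => by
    refine Eq.trans ?_ (ha₀ i)
    refine (GrothendieckTopology.Point.toPresheafFiber_w_apply _ _ _ _ _).trans ?_
    exact congrArg (fun r => gm F y (W₀ i) r (a₀ i)) (jr i).2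
  let WS : ∀ i, Set (Spec (CommRingCat.of (Om y)) ⟶ ((EtCoh.bc b).obj (M i).1).left) := fun i =>
    {x | x ≫ pullback.fst (M i).1.hom b = fiberHom (m i) ∧
      ∀ ξ : Pts b y, ξ.1 = x ≫ pullback.snd (M i).1.hom b → v ξ = v i}
  have hlift : ∀ i (x : Spec (CommRingCat.of (Om y)) ⟶ ((EtCoh.bc b).obj (M i).1).left),
      x ≫ pullback.fst (M i).1.hom b = fiberHom (m i) →
      (x ≫ pullback.snd (M i).1.hom b) ≫ b = eta y := fun i x hx => snd_comp_eq b hx
  obtain ⟨U', j, p', hjp, n, D, o, idx, c, hD, hc, hW⟩ :=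
    IntegralRefine.exists_refinement b U p (fun i => (EtCoh.bc b).obj (M i).1)
      (fun i => (EtCoh.bc b).map (jl i).1) WS
      (fun i l hl => by
        let P := pullback (((EtCoh.bc b).map (jl i).1).left ≫ pullback.fst U.hom b) (fiberHom p)
        have hbc : ((EtCoh.bc b).map (jl i).1).left ≫ pullback.fst U.hom b =
            pullback.fst (M i).1.hom b ≫ (jl i).1.left := (EtCoh.isPullback_bc_map b (jl i).1).w
        let π₁ : P ⟶ pullback (jl i).1.left (fiberHom p) :=
          pullback.lift (pullback.fst _ _ ≫ pullback.fst (M i).1.hom b) (pullback.snd _ _)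
            ((Category.assoc _ _ _).trans ((pullback.fst _ _ ≫= hbc.symm).trans pullback.condition))
        have hMU : (jl i).1.left ≫ U.hom = (M i).1.hom := Over.w (jl i).1.hom
        let π₂ : P ⟶ pullback b (eta y) :=
          pullback.lift (pullback.fst _ _ ≫ pullback.snd (M i).1.hom b) (pullback.snd _ _) (by
            refine (Category.assoc _ _ _).trans ((_ ≫= pullback.condition.symm).trans ?_)
            refine (_ ≫= ((_ ≫= hMU.symm).trans
              ((Category.assoc _ _ _).symm.trans (hbc.symm =≫ U.hom)))).trans ?_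
            refine ((Category.assoc _ _ _).symm.trans (pullback.condition =≫ U.hom)).trans ?_
            exact (Category.assoc _ _ _).trans (_ ≫= fiberHom_comp p))
        have hm : fiberHom (m i) ≫ (jl i).1.left = fiberHom p :=
          congrArg (fun m => m.left) (jl i).2
        let S₀ : Spec (CommRingCat.of (Om y)) ⟶ pullback (jl i).1.left (fiberHom p) :=
          pullback.lift (fiberHom (m i)) (𝟙 _) (hm.trans (Category.id_comp _).symm)
        have := Fiber.etale_left (jl i).1
        have := discrete_fibre y (jl i).1.left (fiberHom p)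
        let ξl : Pts b y := ⟨l ≫ pullback.snd (M i).1.hom b, hlift i l hl.1⟩
        obtain ⟨O, hO, hOl, hOv⟩ := hv ξl
        refine ⟨π₁.base ⁻¹' {S₀.base default} ∩ π₂.base ⁻¹' O,
          ((isOpen_discrete _).preimage π₁.continuous).inter (hO.preimage π₂.continuous),
          fun s hs1 hs2 => ⟨?_, ?_⟩, fun s hs1 hs => ?_⟩
        · have e : s ≫ π₁ = S₀ := by
            apply pullback.hom_ext
            · refine ((Category.assoc _ _ _).trans (s ≫= pullback.lift_fst _ _ _)).trans ?_
              refine ((Category.assoc _ _ _).symm.trans (hs2 =≫ _)).trans ?_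
              exact hl.1.trans (pullback.lift_fst _ _ _).symm
            · exact ((Category.assoc _ _ _).trans (s ≫= pullback.lift_snd _ _ _)).trans
                (hs1.trans (pullback.lift_snd _ _ _).symm)
          exact congrArg (fun m => m.base default) e
        · have e : s ≫ π₂ = secOf b ξl := by
            apply pullback.hom_ext
            · refine ((Category.assoc _ _ _).trans (s ≫= pullback.lift_fst _ _ _)).trans ?_
              refine ((Category.assoc _ _ _).symm.trans (hs2 =≫ _)).trans ?_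
              exact (pullback.lift_fst _ _ _).symm
            · exact ((Category.assoc _ _ _).trans (s ≫= pullback.lift_snd _ _ _)).trans
                (hs1.trans (pullback.lift_snd _ _ _).symm)
          have : (s ≫ π₂).base default ∈ O := e ▸ hOl
          exact this
        · have e : s ≫ π₁ = S₀ := eq_of_base_eq (pullback.snd _ _) (pullback.lift_snd _ _ _)
            (((Category.assoc _ _ _).trans (s ≫= pullback.lift_snd _ _ _)).trans hs1) hs.1
          have h1 : (s ≫ pullback.fst _ _) ≫ pullback.fst (M i).1.hom b = fiberHom (m i) := by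
            refine (Category.assoc _ _ _).trans ?_
            have e1 : π₁ ≫ pullback.fst (jl i).1.left (fiberHom p) =
                pullback.fst _ _ ≫ pullback.fst (M i).1.hom b := pullback.lift_fst _ _ _
            refine ((s ≫= e1.symm).trans (Category.assoc _ _ _).symm).trans ?_
            exact (e =≫ _).trans (pullback.lift_fst _ _ _)
          refine ⟨h1, fun ξ hξ => ?_⟩
          have e2 : secOf b ξ = s ≫ π₂ := by
            apply pullback.hom_ext
            · refine (pullback.lift_fst _ _ _).trans (hξ.trans ?_)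
              refine ((Category.assoc _ _ _).trans ?_)
              exact ((Category.assoc _ _ _).trans (s ≫= pullback.lift_fst _ _ _)).symm
            · exact (pullback.lift_snd _ _ _).trans
                (((Category.assoc _ _ _).trans (s ≫= pullback.lift_snd _ _ _)).trans hs1).symm
          have : ptOf b ξ ∈ O := by
            change (secOf b ξ).base default ∈ O
            rw [e2]
            exact hs.2
          exact (hOv ξ this).trans (hl.2 ξl rfl))
      (fun x hx => by
        let ξ : Pts b y := ⟨x ≫ pullback.snd U.hom b, snd_comp_eq b hx⟩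
        refine ⟨ξ, fiberHom (liftPt b ξ.2 (M ξ).1 (m ξ)), ⟨pullback.lift_fst _ _ _, fun ξ' h => ?_⟩, ?_⟩
        · exact congrArg v (Subtype.ext (h.trans (pullback.lift_snd _ _ _)))
        · have h := congrArg (fun r => r.left) (map_liftPt b ξ.2 (jl ξ).1 (m ξ))
          refine (h.trans ?_)
          change pullback.lift (fiberHom ((Scheme.pointSmallEtale (eta y)).fiber.map (jl ξ).1 (m ξ)))
            ξ.1 _ = x
          apply pullback.hom_ext
          · exact (pullback.lift_fst _ _ _).trans
              ((congrArg (fun r => fiberHom r) (jl ξ).2).trans hx.symm)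
          · exact pullback.lift_snd _ _ _)
  obtain ⟨t, ht⟩ := hD.exists_glue (G F b)
    fun k => (G F b).obj.map (c k).op (un F b (M (idx k)).1 (a (idx k)))
  refine ⟨U', j, p', hjp, ⟨θ F b U' t, t, rfl⟩, fun ξ => ?_⟩
  obtain ⟨k, l, hl⟩ := hD.exists_fac (fiberHom (liftPt b ξ.2 U' p'))
  have hlD : l ≫ (D k).hom = ξ.1 := by
    have : (o k).left ≫ ((EtCoh.bc b).obj U').hom = (D k).hom := Over.w (o k).hom
    refine (l ≫= this.symm).trans ((Category.assoc _ _ _).symm.trans ((hl =≫ _).trans ?_))
    exact fiberHom_comp (liftPt b ξ.2 U' p')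
  let L : (Scheme.pointSmallEtale ξ.1).fiber.obj (D k) := mkFiber ξ.1 (D k) l hlD
  have hoL : (Scheme.pointSmallEtale ξ.1).fiber.map (o k) L = liftPt b ξ.2 U' p' :=
    Over.OverMorphism.ext hl
  have hWl := hW k l ((Category.assoc _ _ _).symm.trans ((hl =≫ _).trans (pullback.lift_fst _ _ _)))
  have hcL : downPt b ξ (M (idx k)).1 ((Scheme.pointSmallEtale ξ.1).fiber.map (c k) L) = m (idx k) :=
    Over.OverMorphism.ext hWl.1
  refine (θ_of_rep F b U' t p' ξ (ht k) L hoL).trans ?_
  rw [hcL, ha]
  refine (hWl.2 ξ ?_).symm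
  have : (c k).left ≫ pullback.snd (M (idx k)).1.hom b = (D k).hom := Over.w (c k).hom
  exact hlD.symm.trans ((l ≫= this.symm).trans (Category.assoc _ _ _).symm)

/-- A section vanishing on a fibre vanishes nearby. -/
theorem exists_vanish (U : Y.Etale) (y : Y) (p : Fib y U) (x : (C F b).obj.obj (op U))
    (hx : ∀ ξ : Pts b y, x.1 y p ξ = 0) :
    ∃ (U' : Y.Etale) (j : U' ⟶ U) (p' : Fib y U'),
      (Scheme.pointSmallEtale (eta y)).fiber.map j p' = p ∧ (C F b).obj.map j.op x = 0 := by
  obtain ⟨_, s, rfl⟩ := x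
  have h := toPresheafFiber_push_ext (η := eta y) b (G F b) U p
    (fun w hw => exists_lift_of_isIntegralHom b U p w hw) s 0 fun ξ hξ => by
      have h0 := congrArg (uE F b (⟨ξ, hξ⟩ : Pts b y)) (hx ⟨ξ, hξ⟩)
      have h1 : uE F b (⟨ξ, hξ⟩ : Pts b y) (θ F b U s y p ⟨ξ, hξ⟩) = uE F b (⟨ξ, hξ⟩ : Pts b y) 0 := h0
      rw [θ_apply, AddEquiv.apply_symm_apply, map_zero] at h1
      exact h1.trans (map_zero _).symm
  obtain ⟨U', j, p', hp', hj⟩ :=
    ((Scheme.pointSmallEtale (eta y)).toPresheafFiber_eq_iff' U p _ _).1 h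
  refine ⟨U', j, p', hp', C_ext F b ?_⟩
  change res F b j (θ F b U s) = 0
  rw [← θ_res]
  refine (congrArg (θ F b U') (hj.trans ?_)).trans (map_zero _)
  exact map_zero _

end Groth.Agent.Lib.IntDescent
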