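import Groth.Agent.Lib.IntDescent.Local
import Mathlib.AlgebraicTopology.AlternatingFaceMapComplex
import Mathlib.Algebra.Homology.ShortComplex.Exact

/-!
# The push-pull resolution along an integral surjective morphism
-/

set_option autoImplicit false

universe u

open CategoryTheory CategoryTheory.Limits AlgebraicGeometry Opposite AlgebraicTopology Simplicial

noncomputable section

namespace Groth.Agent.Lib.IntDescent

open Groth.Agent.Lib.EtSite
open Groth.Agent.Lib.EtSite.Basic Groth.Agent.Lib.EtSite.Stalk Groth.Agent.Lib.EtSite.PushStalk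

variable {X Y : Scheme.{u}} (f : X ⟶ Y)

/-- The fibre powers. -/
abbrev Xn (m : ℕ) : Scheme.{u} := widePullback Y (fun _ : Fin m => X) (fun _ => f)

/-- Their structure maps. -/
abbrev bn (m : ℕ) : Xn f m ⟶ Y := WidePullback.base (fun _ : Fin m => f)

theorem π_bn (m : ℕ) (i : Fin m) : WidePullback.π (fun _ : Fin m => f) i ≫ f = bn f m :=
  WidePullback.π_arrow (fun _ : Fin m => f) i

/-- The last projection of a fibre power as a pullback. -/
def succIso (m : ℕ) : Xn f (m + 1) ≅ pullback (bn f m) f where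
  hom := pullback.lift
    (WidePullback.lift (bn f (m + 1)) (fun i => WidePullback.π _ i.castSucc) fun i => π_bn f _ _)
    (WidePullback.π _ (Fin.last m))
    ((WidePullback.lift_base _ _ _ _).trans (π_bn f _ _).symm)
  inv := WidePullback.lift (pullback.fst _ _ ≫ bn f m)
    (Fin.lastCases (pullback.snd _ _) fun i => pullback.fst _ _ ≫ WidePullback.π _ i) fun i => by
      cases i using Fin.lastCases with
      | last => rw [Fin.lastCases_last]; exact pullback.condition.symm
      | cast i => rw [Fin.lastCases_castSucc, Category.assoc, π_bn]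
  hom_inv_id := by
    refine WidePullback.hom_ext _ _ _ (fun i => ?_) ?_
    · rw [Category.assoc, WidePullback.lift_π, Category.id_comp]
      cases i using Fin.lastCases with
      | last => rw [Fin.lastCases_last, pullback.lift_snd]
      | cast i => rw [Fin.lastCases_castSucc, pullback.lift_fst_assoc, WidePullback.lift_π]
    · simp only [Category.assoc, WidePullback.lift_base, Category.id_comp, pullback.lift_fst_assoc]
  inv_hom_id := by
    apply pullback.hom_ext
    · refine WidePullback.hom_ext _ _ _ (fun i => ?_) ?_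
      · simp only [Category.assoc, pullback.lift_fst_assoc, WidePullback.lift_π,
          Fin.lastCases_castSucc, Category.id_comp]
      · simp only [Category.assoc, pullback.lift_fst_assoc, WidePullback.lift_base, Category.id_comp]
    · rw [Category.assoc, pullback.lift_snd, WidePullback.lift_π, Fin.lastCases_last,
        Category.id_comp]

theorem succIso_hom_snd (m : ℕ) : (succIso f m).hom ≫ pullback.snd (bn f m) f ≫ f = bn f (m + 1) := by
  change pullback.lift _ _ _ ≫ _ = _
  rw [pullback.lift_snd_assoc, π_bn]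

variable [IsIntegralHom f]

instance isIntegralHom_bn (m : ℕ) : IsIntegralHom (bn f m) := by
  induction m with
  | zero =>
    have : IsIso (bn f 0) := ⟨WidePullback.lift (𝟙 Y) (fun i => Fin.elim0 i) (fun i => Fin.elim0 i),
      WidePullback.hom_ext _ _ _ (fun i => Fin.elim0 i) (by
        rw [Category.assoc, WidePullback.lift_base, Category.comp_id, Category.id_comp]),
      WidePullback.lift_base _ _ _ _⟩
    infer_instance
  | succ m ih =>
    have := ih
    rw [← succIso_hom_snd]
    infer_instance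

/-- The map of fibre powers attached to a map of indices. -/
def φn {a c : ℕ} (α : Fin a → Fin c) : Xn f c ⟶ Xn f a :=
  WidePullback.lift (bn f c) (fun i => WidePullback.π _ (α i)) fun i => π_bn f c _

omit [IsIntegralHom f] in
theorem φn_bn {a c : ℕ} (α : Fin a → Fin c) : φn f α ≫ bn f a = bn f c :=
  WidePullback.lift_base _ _ _ _

omit [IsIntegralHom f] in
theorem φn_π {a c : ℕ} (α : Fin a → Fin c) (i : Fin a) :
    φn f α ≫ WidePullback.π _ i = WidePullback.π _ (α i) :=
  WidePullback.lift_π _ _ _ _ _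

omit [IsIntegralHom f] in
theorem pts_ext {m : ℕ} {y : Y} (ξ ξ' : Pts (bn f m) y)
    (h : ∀ i, ξ.1 ≫ WidePullback.π _ i = ξ'.1 ≫ WidePullback.π _ i) : ξ = ξ' :=
  Subtype.ext (WidePullback.hom_ext _ _ _ h (ξ.2.trans ξ'.2.symm))

/-- The map on points attached to a map of indices. -/
abbrev ptMap {a c : ℕ} (α : Fin a → Fin c) {y : Y} (ξ : Pts (bn f c) y) : Pts (bn f a) y :=
  mapPt (bn f a) (φn f α) (φn_bn f α) ξ

omit [IsIntegralHom f] in
theorem ptMap_π {a c : ℕ} (α : Fin a → Fin c) {y : Y} (ξ : Pts (bn f c) y) (i : Fin a) :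
    (ptMap f α ξ).1 ≫ WidePullback.π _ i = ξ.1 ≫ WidePullback.π _ (α i) :=
  (Category.assoc _ _ _).trans (ξ.1 ≫= φn_π f α i)

variable (F : EtCoh.Ab Y)

omit [IsIntegralHom f] in
theorem hom_C_ext {T : Scheme.{u}} {b : T ⟶ Y} [IsIntegralHom b] {A : EtCoh.Ab Y} {φ ψ : A ⟶ C F b}
    (h : ∀ (U : Y.Etale) (x : A.obj.obj (op U)) (y : Y) (p : Fib y U) (ξ : Pts b y),
      (φ.hom.app (op U) x).1 y p ξ = (ψ.hom.app (op U) x).1 y p ξ) : φ = ψ :=
  Sheaf.hom_ext (NatTrans.ext (funext fun U => AddCommGrpCat.hom_ext (AddMonoidHom.ext fun x =>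
    C_ext F b (funext fun y => funext fun p => funext fun ξ => h U.unop x y p ξ))))

/-- The cosimplicial push-pull sheaf. -/
def cos : CosimplicialObject (EtCoh.Ab Y) where
  obj n := C F (bn f (n.len + 1))
  map {n n'} α := cMap F (bn f (n.len + 1)) (φn f α.toOrderHom) (φn_bn f _)
  map_id n := by
    refine hom_C_ext F fun U x y p ξ => ?_
    change x.1 y p (ptMap f _ ξ) = x.1 y p ξ
    exact congrArg (x.1 y p) (pts_ext f _ _ fun i => ptMap_π f _ ξ i)
  map_comp {n n' n''} α β := by
    refine hom_C_ext F fun U x y p ξ => ?_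
    change x.1 y p (ptMap f _ ξ) = x.1 y p (ptMap f _ (ptMap f _ ξ))
    refine congrArg (x.1 y p) (pts_ext f _ _ fun i => ?_)
    rw [ptMap_π, ptMap_π, ptMap_π]
    rfl

/-- The push-pull complex. -/
def K : CochainComplex (EtCoh.Ab Y) ℕ := (alternatingCofaceMapComplex (EtCoh.Ab Y)).obj (cos f F)

variable {F}

/-- Evaluation of a morphism at a section and a point. -/
def evalAt {A : EtCoh.Ab Y} {m : ℕ} {U : Y.Etale} (x : A.obj.obj (op U)) (y : Y) (p : Fib y U)
    (ξ : Pts (bn f m) y) : (A ⟶ C F (bn f m)) →+ St F y where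
  toFun d := (d.hom.app (op U) x).1 y p ξ
  map_zero' := rfl
  map_add' _ _ := rfl

theorem K_d_apply (n : ℕ) {U : Y.Etale} (x : ((K f F).X n).obj.obj (op U)) (y : Y) (p : Fib y U)
    (ξ : Pts (bn f (n + 1 + 1)) y) :
    (((K f F).d n (n + 1)).hom.app (op U) x).1 y p ξ =
      ∑ i : Fin (n + 2), (-1 : ℤ) ^ (i : ℕ) • x.1 y p (ptMap f i.succAbove ξ) := by
  have hd : (K f F).d n (n + 1) = AlternatingCofaceMapComplex.objD (cos f F) n := by
    dsimp only [K, alternatingCofaceMapComplex, AlternatingCofaceMapComplex.obj]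
    exact CochainComplex.of_d _ _ n
  have h := congrArg (evalAt f (A := C F (bn f (n + 1))) x y p ξ) hd
  refine h.trans ?_
  change evalAt f (A := C F (bn f (n + 1))) x y p ξ
    (∑ i : Fin (n + 2), (-1 : ℤ) ^ (i : ℕ) • (cos f F).δ i) = _
  refine (map_sum _ _ _).trans (Finset.sum_congr rfl fun i _ => ?_)
  exact map_zsmul _ _ _

variable (F)

/-- The augmentation. -/
def aug : F ⟶ (K f F).X 0 := cAug F (bn f 1)

theorem aug_apply {U : Y.Etale} (a : F.obj.obj (op U)) (y : Y) (p : Fib y U)
    (ξ : Pts (bn f 1) y) : ((aug f F).hom.app (op U) a).1 y p ξ = gm F y U p a :=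
  cAug_apply F (bn f 1) a y p ξ

theorem aug_d : aug f F ≫ (K f F).d 0 1 = 0 := by
  refine hom_C_ext F fun U a y p ξ => ?_
  refine (K_d_apply f 0 ((aug f F).hom.app (op U) a) y p ξ).trans ?_
  rw [Fin.sum_univ_two, aug_apply, aug_apply]
  change (1 : ℤ) • gm F y U p a + (-1 : ℤ) • gm F y U p a = 0
  rw [one_smul, neg_smul, one_smul, add_neg_cancel]

/-! ### The extra degeneracy on a fibre -/

variable [Surjective f]

theorem exists_basePt (y : Y) : Nonempty {ξ : Spec (CommRingCat.of (Om y)) ⟶ X // ξ ≫ f = eta y} := by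
  obtain ⟨x, rfl⟩ := f.surjective y
  obtain ⟨ξ, -⟩ := exists_pt f x
  exact ⟨ξ⟩

/-- A chosen point of `X`. -/
def basePt (y : Y) : {ξ : Spec (CommRingCat.of (Om y)) ⟶ X // ξ ≫ f = eta y} :=
  Classical.choice (exists_basePt f y)

/-- Adjoining the chosen point in front. -/
def consPt {m : ℕ} {y : Y} (ξ : Pts (bn f m) y) : Pts (bn f (m + 1)) y :=
  ⟨WidePullback.lift (eta y) (Fin.cons (basePt f y).1 fun i => ξ.1 ≫ WidePullback.π _ i)
    (fun i => by
      cases i using Fin.cases with
      | zero => rw [Fin.cons_zero]; exact (basePt f y).2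
      | succ i => rw [Fin.cons_succ, Category.assoc, π_bn]; exact ξ.2),
    WidePullback.lift_base _ _ _ _⟩

theorem consPt_zero {m : ℕ} {y : Y} (ξ : Pts (bn f m) y) :
    (consPt f ξ).1 ≫ WidePullback.π _ 0 = (basePt f y).1 := by
  rw [consPt, WidePullback.lift_π, Fin.cons_zero]

theorem consPt_succ {m : ℕ} {y : Y} (ξ : Pts (bn f m) y) (i : Fin m) :
    (consPt f ξ).1 ≫ WidePullback.π _ i.succ = ξ.1 ≫ WidePullback.π _ i := by
  rw [consPt, WidePullback.lift_π, Fin.cons_succ]

/-- Adjoining the chosen point in front, as a map of fibres. -/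
def consMap (m : ℕ) (y : Y) : pullback (bn f m) (eta y) ⟶ pullback (bn f (m + 1)) (eta y) :=
  pullback.lift
    (WidePullback.lift (pullback.snd (bn f m) (eta y) ≫ eta y)
      (Fin.cons (pullback.snd (bn f m) (eta y) ≫ (basePt f y).1)
        fun i => pullback.fst (bn f m) (eta y) ≫ WidePullback.π _ i)
      (fun i => by
        cases i using Fin.cases with
        | zero => rw [Fin.cons_zero, Category.assoc, (basePt f y).2]
        | succ i => rw [Fin.cons_succ, Category.assoc, π_bn, pullback.condition]))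
    (pullback.snd _ _) (WidePullback.lift_base _ _ _ _)

theorem secOf_consMap {m : ℕ} {y : Y} (ξ : Pts (bn f m) y) :
    secOf (bn f m) ξ ≫ consMap f m y = secOf (bn f (m + 1)) (consPt f ξ) := by
  apply pullback.hom_ext
  · rw [Category.assoc, consMap, pullback.lift_fst, pullback.lift_fst]
    refine WidePullback.hom_ext _ _ _ (fun i => ?_) ?_
    · rw [Category.assoc, WidePullback.lift_π]
      cases i using Fin.cases with
      | zero => rw [Fin.cons_zero, consPt_zero, pullback.lift_snd_assoc, Category.id_comp]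
      | succ i => rw [Fin.cons_succ, consPt_succ, pullback.lift_fst_assoc]
    · rw [Category.assoc, WidePullback.lift_base, pullback.lift_snd_assoc, Category.id_comp]
      exact (consPt f ξ).2.symm
  · rw [Category.assoc, consMap, pullback.lift_snd, pullback.lift_snd, pullback.lift_snd]

variable {F}

theorem exists_open_cons {m : ℕ} {U : Y.Etale} (x : (C F (bn f (m + 1))).obj.obj (op U)) (y : Y)
    (p : Fib y U) (ξ₀ : Pts (bn f m) y) :
    ∃ O : Set ↥(pullback (bn f m) (eta y)), IsOpen O ∧ ptOf (bn f m) ξ₀ ∈ O ∧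
      ∀ ξ : Pts (bn f m) y, ptOf (bn f m) ξ ∈ O →
        x.1 y p (consPt f ξ) = x.1 y p (consPt f ξ₀) := by
  obtain ⟨O, hO, h0, h⟩ := exists_open_const F (bn f (m + 1)) U x.2 y p (consPt f ξ₀)
  have e : ∀ ξ : Pts (bn f m) y,
      (consMap f m y).base (ptOf (bn f m) ξ) = ptOf (bn f (m + 1)) (consPt f ξ) :=
    fun ξ => congrArg (fun s : Spec (CommRingCat.of (Om y)) ⟶ pullback (bn f (m + 1)) (eta y) =>
      s.base default) (secOf_consMap f ξ)
  refine ⟨(consMap f m y).base ⁻¹' O, hO.preimage (consMap f m y).continuous, ?_,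
    fun ξ hξ => h _ ?_⟩
  · rw [Set.mem_preimage, e]; exact h0
  · rw [Set.mem_preimage, e] at hξ; exact hξ

/-- Cocycles in positive degree are coboundaries nearby. -/
theorem exists_preimage_succ (n : ℕ) {U : Y.Etale} (x : ((K f F).X (n + 1)).obj.obj (op U))
    (hx : ((K f F).d (n + 1) (n + 2)).hom.app (op U) x = 0) (u : U.left) :
    ∃ (U' : Y.Etale) (j : U' ⟶ U) (t : ((K f F).X n).obj.obj (op U')),
      ((K f F).d n (n + 1)).hom.app (op U') t = ((K f F).X (n + 1)).obj.map j.op x ∧
        u ∈ Set.range j.left.base := by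
  obtain ⟨p, hp⟩ := exists_fiber (eta (U.hom.base u)) U u (Push.algPoint_apply Y _ _).symm
  obtain ⟨U₁, j₁, p₁, hj₁, τ, hτ⟩ := exists_extend F (bn f (n + 1)) U _ p
    (fun ξ => x.1 _ p (consPt f ξ)) (exists_open_cons f x _ p)
  let z : (C F (bn f (n + 1 + 1))).obj.obj (op U₁) :=
    ((K f F).d n (n + 1)).hom.app (op U₁) τ - ((K f F).X (n + 1)).obj.map j₁.op x
  obtain ⟨U₂, j₂, p₂, hj₂, hz⟩ := exists_vanish F (bn f (n + 1 + 1)) U₁ _ p₁ z fun ξ => by
    change (((K f F).d n (n + 1)).hom.app (op U₁) τ).1 _ p₁ ξ -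
      x.1 _ ((Scheme.pointSmallEtale (eta _)).fiber.map j₁ p₁) ξ = 0
    rw [K_d_apply, hj₁]
    simp only [hτ]
    have h0 : ∑ i : Fin (n + 1 + 2), (-1 : ℤ) ^ (i : ℕ) •
        x.1 _ p (ptMap f i.succAbove (consPt f ξ)) = 0 :=
      (K_d_apply f (n + 1) x _ p (consPt f ξ)).symm.trans (by rw [hx]; rfl)
    rw [Fin.sum_univ_succ] at h0
    have e0 : ptMap f (0 : Fin (n + 1 + 2)).succAbove (consPt f ξ) = ξ :=
      pts_ext f _ _ fun i => by rw [ptMap_π, Fin.succAbove_zero, consPt_succ]
    have ei : ∀ i : Fin (n + 2), ptMap f i.succ.succAbove (consPt f ξ) =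
        consPt f (ptMap f i.succAbove ξ) := fun i => pts_ext f _ _ fun k => by
      cases k using Fin.cases with
      | zero => rw [ptMap_π, Fin.succ_succAbove_zero, consPt_zero, consPt_zero]
      | succ k => rw [ptMap_π, Fin.succ_succAbove_succ, consPt_succ, consPt_succ, ptMap_π]
    simp only [ei, e0, Fin.val_zero, pow_zero, one_smul, Fin.val_succ, pow_succ, mul_neg, mul_one,
      neg_smul, Finset.sum_neg_distrib] at h0
    rw [sub_eq_zero]
    exact (eq_of_sub_eq_zero ((sub_eq_add_neg _ _).trans h0)).symm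
  refine ⟨U₂, j₂ ≫ j₁, ((K f F).X n).obj.map j₂.op τ, ?_, fiberPt p₂, ?_⟩
  · have hz' : (C F (bn f (n + 1 + 1))).obj.map j₂.op (((K f F).d n (n + 1)).hom.app (op U₁) τ) -
        (C F (bn f (n + 1 + 1))).obj.map j₂.op (((K f F).X (n + 1)).obj.map j₁.op x) = 0 :=
      (map_sub _ _ _).symm.trans hz
    refine (NatTrans.naturality_apply ((K f F).d n (n + 1)).hom j₂.op τ).trans ?_
    refine (eq_of_sub_eq_zero hz').trans ?_
    exact (ConcreteCategory.comp_apply _ _ x).symm.trans
      (congrArg (fun m => m x) ((congrArg ConcreteCategory.hom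
        (((K f F).X (n + 1)).obj.map_comp j₁.op j₂.op).symm)))
  · refine (fiberPt_map (j₂ ≫ j₁) p₂).symm.trans ?_
    rw [Functor.map_comp, ConcreteCategory.comp_apply, hj₂, hj₁, hp]

/-- Cocycles in degree zero come from the sheaf nearby. -/
theorem exists_preimage_zero {U : Y.Etale} (x : ((K f F).X 0).obj.obj (op U))
    (hx : ((K f F).d 0 1).hom.app (op U) x = 0) (u : U.left) :
    ∃ (U' : Y.Etale) (j : U' ⟶ U) (a : F.obj.obj (op U')),
      (aug f F).hom.app (op U') a = ((K f F).X 0).obj.map j.op x ∧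
        u ∈ Set.range j.left.base := by
  let y := U.hom.base u
  obtain ⟨p, hp⟩ := exists_fiber (eta y) U u (Push.algPoint_apply Y _ _).symm
  let ξs : Pts (bn f 1) y := ⟨WidePullback.lift (eta y) (fun _ => (basePt f y).1) fun _ => (basePt f y).2,
    WidePullback.lift_base _ _ _ _⟩
  let Φ := Scheme.pointSmallEtale (eta y)
  obtain ⟨W₀, q₀, a₀, ha₀⟩ := Φ.toPresheafFiber_jointly_surjective (x.1 y p ξs)
  let M := IsCofiltered.min (Φ.fiber.elementsMk U p) (Φ.fiber.elementsMk W₀ q₀)
  let jl : M ⟶ Φ.fiber.elementsMk U p := IsCofiltered.minToLeft _ _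
  let jr : M ⟶ Φ.fiber.elementsMk W₀ q₀ := IsCofiltered.minToRight _ _
  let a : F.obj.obj (op M.1) := F.obj.map jr.1.op a₀
  have ha : gm F y M.1 M.2 a = x.1 y p ξs := by
    refine Eq.trans ?_ ha₀
    refine (GrothendieckTopology.Point.toPresheafFiber_w_apply _ _ _ _ _).trans ?_
    exact congrArg (fun r => gm F y W₀ r a₀) jr.2
  let z : (C F (bn f 1)).obj.obj (op M.1) :=
    (aug f F).hom.app (op M.1) a - ((K f F).X 0).obj.map jl.1.op x
  obtain ⟨U₂, j₂, p₂, hj₂, hz⟩ := exists_vanish F (bn f 1) M.1 y M.2 z fun ξ => by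
    change ((aug f F).hom.app (op M.1) a).1 y M.2 ξ -
      x.1 y ((Scheme.pointSmallEtale (eta y)).fiber.map jl.1 M.2) ξ = 0
    rw [aug_apply, ha]
    refine sub_eq_zero.2 (Eq.trans ?_ (congrArg (fun r => x.1 y r ξ) jl.2.symm))
    have h0 : ∑ i : Fin 2, (-1 : ℤ) ^ (i : ℕ) • x.1 y p (ptMap f i.succAbove (consPt f ξ)) = 0 :=
      (K_d_apply f 0 x y p (consPt f ξ)).symm.trans (by rw [hx]; rfl)
    rw [Fin.sum_univ_two] at h0
    have e0 : ptMap f (0 : Fin 2).succAbove (consPt f ξ) = ξ :=
      pts_ext f _ _ fun i => by rw [ptMap_π, Fin.succAbove_zero, consPt_succ]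
    have e1 : ptMap f (1 : Fin 2).succAbove (consPt f ξ) = ξs := pts_ext f _ _ fun i => by
      obtain rfl : i = 0 := Subsingleton.elim _ _
      rw [ptMap_π, Fin.succAbove_ne_zero_zero (by decide), consPt_zero, WidePullback.lift_π]
    rw [e0, e1] at h0
    simp only [Fin.val_zero, pow_zero, one_smul, Fin.val_one, pow_one, neg_smul] at h0
    exact (eq_of_sub_eq_zero ((sub_eq_add_neg _ _).trans h0)).symm
  refine ⟨U₂, j₂ ≫ jl.1, F.obj.map j₂.op a, ?_, fiberPt p₂, ?_⟩
  · have hz' : (C F (bn f 1)).obj.map j₂.op ((aug f F).hom.app (op M.1) a) -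
        (C F (bn f 1)).obj.map j₂.op (((K f F).X 0).obj.map jl.1.op x) = 0 :=
      (map_sub _ _ _).symm.trans hz
    refine (NatTrans.naturality_apply (aug f F).hom j₂.op a).trans ?_
    refine (eq_of_sub_eq_zero hz').trans ?_
    exact (ConcreteCategory.comp_apply _ _ x).symm.trans
      (congrArg (fun m => m x) ((congrArg ConcreteCategory.hom
        (((K f F).X 0).obj.map_comp jl.1.op j₂.op).symm)))
  · refine (fiberPt_map (j₂ ≫ jl.1) p₂).symm.trans ?_
    rw [Functor.map_comp, ConcreteCategory.comp_apply, hj₂]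
    exact (congrArg fiberPt jl.2).trans hp

variable (F)

instance mono_aug : Mono (aug f F) := by
  have : ∀ U, Mono ((aug f F).hom.app U) := fun U => by
    refine (AddCommGrpCat.mono_iff_injective _).2 fun a a' h => ?_
    refine sections_ext_of_germ F a a' fun y => ?_
    refine ⟨_, inferInstance, inferInstance, eta y, Push.algPoint_apply Y y _, fun p => ?_⟩
    let ξ : Pts (bn f 1) y := ⟨WidePullback.lift (eta y) (fun _ => (basePt f y).1)
      fun _ => (basePt f y).2, WidePullback.lift_base _ _ _ _⟩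
    exact (aug_apply f F a y p ξ).symm.trans
      ((congrArg (fun c : (C F (bn f 1)).obj.obj (op U.unop) => c.1 y p ξ) h).trans
        (aug_apply f F a' y p ξ))
  have : Mono ((sheafToPresheaf _ _).map (aug f F)) := NatTrans.mono_of_mono_app (aug f F).hom
  exact (sheafToPresheaf _ _).mono_of_mono_map this

/-- Exactness from local preimages. -/
theorem exact_of_local (S : ShortComplex (EtCoh.Ab Y))
    (h : ∀ (U : Y.Etale) (x : S.X₂.obj.obj (op U)), S.g.hom.app (op U) x = 0 → ∀ u : U.left,
      ∃ (U' : Y.Etale) (j : U' ⟶ U) (a : S.X₁.obj.obj (op U')),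
        S.f.hom.app (op U') a = S.X₂.obj.map j.op x ∧ u ∈ Set.range j.left.base) :
    S.Exact := by
  rw [ShortComplex.exact_iff_epi_kernel_lift]
  have : Sheaf.IsLocallySurjective (kernel.lift S.g S.f S.zero) := by
    refine ⟨fun {U} t => (mem_topology_iff _).2 fun u => ?_⟩
    have hk : S.g.hom.app (op U) ((kernel.ι S.g).hom.app (op U) t) = 0 := by
      refine ((ConcreteCategory.comp_apply _ _ t).symm.trans ?_)
      exact congrArg (fun m : kernel S.g ⟶ S.X₃ => m.hom.app (op U) t) (kernel.condition S.g)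
    obtain ⟨U', j, a, ha, hu⟩ := h U ((kernel.ι S.g).hom.app (op U) t) hk u
    refine ⟨U', j, ⟨a, ?_⟩, hu⟩
    have hinj : Function.Injective ((kernel.ι S.g).hom.app (op U')) := by
      have : Mono ((sheafToPresheaf _ _).map (kernel.ι S.g)) := inferInstance
      exact (AddCommGrpCat.mono_iff_injective _).1
        ((NatTrans.mono_iff_mono_app ((sheafToPresheaf _ _).map (kernel.ι S.g))).1 this (op U'))
    refine hinj ?_
    refine ((ConcreteCategory.comp_apply _ _ a).symm.trans
      ((congrArg (fun m : S.X₁ ⟶ S.X₂ => m.hom.app (op U') a) (kernel.lift_ι _ _ _)).trans ha)).trans ?_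
    exact (NatTrans.naturality_apply (kernel.ι S.g).hom j.op t).symm
  exact Sheaf.epi_of_isLocallySurjective _

theorem exact_aug : (ShortComplex.mk (aug f F) ((K f F).d 0 1) (aug_d f F)).Exact :=
  exact_of_local _ fun _ x hx u => exists_preimage_zero f x hx u

theorem exactAt_succ (n : ℕ) : (K f F).ExactAt (n + 1) := by
  rw [HomologicalComplex.exactAt_iff' _ n (n + 1) (n + 2) (by simp) (by simp)]
  exact exact_of_local _ fun _ x hx u => exists_preimage_succ f n x hx u

/-- The degree zero cocycles are the sheaf. -/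
def cyclesIso : F ≅ (K f F).homology 0 :=
  ((exact_aug f F).fIsKernel).conePointUniqueUpToIso ((K f F).cyclesIsKernel 0 1 (by simp)) ≪≫
    @asIso _ _ _ _ ((K f F).homologyπ 0)
      ((K f F).isIso_homologyπ 0 0 (by simp) ((K f F).shape 0 0 (by simp)))

end Groth.Agent.Lib.IntDescent
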