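import Groth.Agent.Lib.IntDescent.Resolution
import Groth.Agent.Lib.IntDescent.InjCx
import Groth.Agent.Lib.EtSite.LowLeray
import Groth.Agent.Lib.BigEt.PiPull
import Groth.Agent.H30.E1.Double
import Groth.Prelude.Def_SpSeq

/-!
# The descent spectral sequence of an integral surjective morphism
-/

set_option autoImplicit false

universe v u

open CategoryTheory CategoryTheory.Limits AlgebraicGeometry Opposite

noncomputable section

namespace Groth.Agent.Lib.IntDescent

open Groth.Agent.Lib.SpecSeq

section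

variable {A : Type u} [Category.{v} A] [Abelian A] (X : A)

/-- Homomorphisms out of an object, on complexes. -/
abbrev homC (J : CochainComplex A ℕ) : CochainComplex AddCommGrpCat.{v} ℕ :=
  ((HomExt.homFunctor X).mapHomologicalComplex (.up ℕ)).obj J

theorem isZero_homC (J : CochainComplex A ℕ) [Injective J] (n : ℕ) :
    IsZero ((homC X J).homology (n + 1)) := by
  refine (HomologicalComplex.exactAt_iff_isZero_homology _ _).1 ?_
  rw [HomologicalComplex.exactAt_iff' _ n (n + 1) (n + 2) (by simp) (by simp),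
    ShortComplex.ab_exact_iff]
  intro x hx
  let x' : X ⟶ J.X (n + 1) := x
  have hx' : x' ≫ J.d (n + 1) (n + 2) = 0 := hx
  let r := Injective.factorThru (𝟙 J) (CxExt.coneι J)
  have hr : CxExt.coneι J ≫ r = 𝟙 J := Injective.comp_factorThru _ _
  let y : X ⟶ (CxExt.cone J).X n :=
    x' ≫ (biprod.inr : J.X (n + 1) ⟶ J.X n ⊞ J.X (n + 1))
  have hz : x' ≫ (CxExt.coneι J).f (n + 1) = y ≫ (CxExt.cone J).d n (n + 1) := by
    rw [CxExt.cone_d]
    apply biprod.hom_ext <;> simp [CxExt.coneι, y, hx']
  refine ⟨y ≫ r.f n, ?_⟩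
  change (y ≫ r.f n) ≫ J.d n (n + 1) = x'
  rw [Category.assoc, r.comm, ← Category.assoc, ← hz, Category.assoc, ← HomologicalComplex.comp_f, hr,
    HomologicalComplex.id_f, Category.comp_id]

/-- Homomorphisms out of an object commute with degree zero cohomology. -/
def cyclesHomIso (J : CochainComplex A ℕ) :
    (HomExt.homFunctor X).obj (J.cycles 0) ≅ (homC X J).cycles 0 :=
  (KernelFork.mapIsLimit _ (J.cyclesIsKernel 0 1 (by simp)) (HomExt.homFunctor X)).conePointUniqueUpToIso
    ((homC X J).cyclesIsKernel 0 1 (by simp))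

theorem cyclesHomIso_hom_i (J : CochainComplex A ℕ) :
    (cyclesHomIso X J).hom ≫ (homC X J).iCycles 0 = (HomExt.homFunctor X).map (J.iCycles 0) :=
  IsLimit.conePointUniqueUpToIso_hom_comp
    (KernelFork.mapIsLimit _ (J.cyclesIsKernel 0 1 (by simp)) (HomExt.homFunctor X))
    ((homC X J).cyclesIsKernel 0 1 (by simp)) WalkingParallelPair.zero

theorem isIso_π₀ {B : Type*} [Category B] [Abelian B] (J : CochainComplex B ℕ) :
    IsIso (J.homologyπ 0) :=
  J.isIso_homologyπ 0 0 (by simp) (J.shape 0 0 (by simp))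

/-- Homomorphisms out of an object commute with degree zero cohomology. -/
def h0HomIso :
    HomologicalComplex.homologyFunctor A (.up ℕ) 0 ⋙ HomExt.homFunctor X ≅
      (HomExt.homFunctor X).mapHomologicalComplex (.up ℕ) ⋙
        HomologicalComplex.homologyFunctor AddCommGrpCat.{v} (.up ℕ) 0 :=
  NatIso.ofComponents
    (fun J => (HomExt.homFunctor X).mapIso (@asIso _ _ _ _ (J.homologyπ 0) (isIso_π₀ J)).symm ≪≫
      cyclesHomIso X J ≪≫ @asIso _ _ _ _ ((homC X J).homologyπ 0) (isIso_π₀ (homC X J)))
    (fun {J J'} φ => by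
      have := isIso_π₀ J
      have := isIso_π₀ J'
      let T := HomExt.homFunctor X
      have e1 : T.map (HomologicalComplex.cyclesMap φ 0) ≫ (cyclesHomIso X J').hom =
          (cyclesHomIso X J).hom ≫ HomologicalComplex.cyclesMap ((T.mapHomologicalComplex _).map φ) 0 := by
        refine (cancel_mono ((homC X J').iCycles 0)).1 ?_
        refine (Category.assoc _ _ _).trans ((_ ≫= cyclesHomIso_hom_i X J').trans ?_)
        refine (T.map_comp _ _).symm.trans ((congrArg T.map (HomologicalComplex.cyclesMap_i φ 0)).trans ?_)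
        refine Eq.trans ?_ (Category.assoc _ _ _).symm
        refine Eq.trans ?_ ((cyclesHomIso X J).hom ≫= (HomologicalComplex.cyclesMap_i
          ((T.mapHomologicalComplex _).map φ) 0).symm)
        refine (T.map_comp _ _).trans (Eq.trans ?_ (Category.assoc _ _ _))
        exact ((cyclesHomIso_hom_i X J) =≫ _).symm
      change T.map (HomologicalComplex.homologyMap φ 0) ≫ T.map (inv (J'.homologyπ 0)) ≫
          (cyclesHomIso X J').hom ≫ (homC X J').homologyπ 0 =
        (T.map (inv (J.homologyπ 0)) ≫ (cyclesHomIso X J).hom ≫ (homC X J).homologyπ 0) ≫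
          HomologicalComplex.homologyMap ((T.mapHomologicalComplex _).map φ) 0
      have e2 : HomologicalComplex.homologyMap φ 0 ≫ inv (J'.homologyπ 0) =
          inv (J.homologyπ 0) ≫ HomologicalComplex.cyclesMap φ 0 := by
        rw [IsIso.comp_inv_eq, Category.assoc, ← HomologicalComplex.homologyπ_naturality,
          IsIso.inv_hom_id_assoc]
      refine (Category.assoc _ _ _).symm.trans ?_
      rw [← Functor.map_comp, e2, Functor.map_comp, Category.assoc]
      refine Eq.trans ?_ (Category.assoc _ _ _).symm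
      refine T.map (inv (J.homologyπ 0)) ≫= ?_
      refine ((Category.assoc _ _ _).symm.trans (e1 =≫ _)).trans ?_
      refine Eq.trans ?_ (Category.assoc _ _ _).symm
      refine (Category.assoc _ _ _).trans ((cyclesHomIso X J).hom ≫= ?_)
      exact (HomologicalComplex.homologyπ_naturality _ _).symm)

end

variable {X Y : Scheme.{u}} (f : X ⟶ Y) [IsIntegralHom f] [Surjective f]

theorem exists_spectralSequence (F : EtCoh.Ab Y) :
    ∃ (E : CohomologicalSpectralSequence AddCommGrpCat.{u + 1} 1)
      (a : SpSeq.Abutment E (fun n : ℤ =>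
        if 0 ≤ n then AddCommGrpCat.of (EtCoh.H Y F n.toNat) else AddCommGrpCat.of PUnit.{u + 2})),
      (∀ n, a.IsFinite n) ∧ SpSeq.IsBounded E ∧
      ∀ p q : ℤ, Nonempty ((E.page 1 le_rfl).X (p, q) ≅
        (if 0 ≤ p ∧ 0 ≤ q then
          AddCommGrpCat.of (EtCoh.H (widePullback Y (fun _ : Fin (p.toNat + 1) => X) (fun _ => f))
            ((EtCoh.pull (WidePullback.base (fun _ : Fin (p.toNat + 1) => f) :
              widePullback Y (fun _ : Fin (p.toNat + 1) => X) (fun _ => f) ⟶ Y)).obj F) q.toNat)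
         else AddCommGrpCat.of PUnit.{u + 2})) := by
  let Kc : CochainComplex (EtCoh.Ab Y) ℕ := K f F
  let R : InjectiveResolution Kc := injectiveResolution Kc
  have hK : ∀ n : ℕ, IsZero (Kc.homology (n + 1)) := fun n =>
    (HomologicalComplex.exactAt_iff_isZero_homology _ _).1 (exactAt_succ f F n)
  let RF : InjectiveResolution F := InjCx.resolution Kc R hK (cyclesIso f F)
  let cY : EtCoh.Ab Y := EtCoh.const Y ℤ
  let T := HomExt.homFunctor cY
  let D := ((T.mapHomologicalComplex (.up ℕ)).mapHomologicalComplex (.up ℕ)).obj R.cocomplex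
  have hp : IsZero (AddCommGrpCat.of PUnit.{u + 2}) := AddCommGrpCat.isZero_of_subsingleton _
  refine Groth.Agent.H30.E1.exists_spectralSequence D
    (fun q p => @isZero_homC _ _ _ cY (R.cocomplex.X q) (R.injective q) p) _
    (fun n => ?_) (fun n hn => ?_) _ (fun p q => ?_) (fun p q hpq => ?_)
  · let e : Groth.Agent.H30.E1.rowsH0 D ≅ HomExt.homCx RF cY :=
      HomologicalComplex.Hom.isoOfComponents
        (fun q => ((h0HomIso cY).app (R.cocomplex.X q)).symm) fun i j _ =>
          ((h0HomIso cY).inv.naturality (R.cocomplex.d i j)).symm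
    refine ⟨(HomologicalComplex.homologyFunctor _ _ n).mapIso e ≪≫ HomExt.homologyIso RF n ≪≫
      eqToIso ?_⟩
    rw [if_pos (Int.natCast_nonneg n), Int.toNat_natCast]
  · rw [if_neg (not_le.2 hn)]; exact hp
  · let Rp : InjectiveResolution (Kc.X p) := InjCx.evalResolution Kc R p
    let e : Groth.Agent.H30.E1.col D p ≅ HomExt.homCx Rp cY :=
      HomologicalComplex.Hom.isoOfComponents (fun q => Iso.refl _) fun i j _ =>
        (Category.id_comp _).trans (Category.comp_id _).symm
    let b := bn f (p + 1)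
    let G₀ := (EtCoh.pull b).obj F
    have hb : Function.Bijective (EtSite.LowLeray.lam b G₀ q) :=
      (EtSite.LowLeray.lam_bijective b q G₀
        fun k hk _ => EtSite.Push.isZero_Rpush b G₀ k hk).1 q le_rfl
    let a : EtCoh.H Y (C F b) q ≃+ EtCoh.H (Xn f (p + 1)) G₀ q :=
      (BigEt.PiPull.hCongr (cIso F b).symm q).trans (AddEquiv.ofBijective _ hb)
    refine ⟨(HomologicalComplex.homologyFunctor _ _ q).mapIso e ≪≫ HomExt.homologyIso Rp q ≪≫
      AddEquiv.toAddCommGrpIso (X := AddCommGrpCat.of (EtCoh.H Y (C F b) q))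
        (Y := AddCommGrpCat.of (EtCoh.H (Xn f (p + 1)) G₀ q)) a ≪≫ eqToIso ?_⟩
    rw [if_pos ⟨Int.natCast_nonneg p, Int.natCast_nonneg q⟩]
    rfl
  · rw [if_neg hpq]; exact hp

end Groth.Agent.Lib.IntDescent
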